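import Mathlib

/-!
# Weights of a group of commuting operators

`τ : Q →* End K V` is a representation of a finite group whose image commutes on a subspace; `eig τ μ` is
the weight space of a character `μ`.  When a group `A` permutes the characters compatibly, the stabiliser
of a character controls the fixed points of `A`.
-/

set_option autoImplicit false
set_option linter.style.haveILetI false

namespace Cfsg.Agent.Lib.PqFpf

open Module

section Weights

variable {K V Q : Type*} [Field K] [AddCommGroup V] [Module K V] [Group Q]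

/-- The weight space of a character. -/
def eig (τ : Q →* End K V) (μ : Q →* Kˣ) : Submodule K V where
  carrier := {v | ∀ y, τ y v = ((μ y : Kˣ) : K) • v}
  add_mem' := by
    intro a b ha hb x
    rw [map_add, ha x, hb x, smul_add]
  zero_mem' := by
    intro x
    simp
  smul_mem' := by
    intro c v hv x
    rw [map_smul, hv x, smul_comm]

theorem mem_eig {τ : Q →* End K V} {μ : Q →* Kˣ} {v : V} :
    v ∈ eig τ μ ↔ ∀ y, τ y v = ((μ y : Kˣ) : K) • v := Iff.rfl

/-- The projection onto a weight space, up to the factor `|Q|`. -/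
noncomputable def proj [Fintype Q] (τ : Q →* End K V) (μ : Q →* Kˣ) : End K V :=
  ∑ y : Q, (((μ y)⁻¹ : Kˣ) : K) • τ y

theorem proj_apply [Fintype Q] (τ : Q →* End K V) (μ : Q →* Kˣ) (v : V) :
    proj τ μ v = ∑ y : Q, (((μ y)⁻¹ : Kˣ) : K) • τ y v := by
  simp [proj, LinearMap.sum_apply]

theorem proj_self [Fintype Q] {τ : Q →* End K V} {μ : Q →* Kˣ} {v : V} (hv : v ∈ eig τ μ) :
    proj τ μ v = (Fintype.card Q : K) • v := by
  rw [proj_apply]
  have h1 : ∀ x : Q, (((μ x)⁻¹ : Kˣ) : K) • τ x v = v := by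
    intro x
    rw [hv x, smul_smul]
    simp
  simp_rw [h1]
  rw [Finset.sum_const, Finset.card_univ, Nat.cast_smul_eq_nsmul]

theorem proj_other [Fintype Q] {τ : Q →* End K V} {μ ν : Q →* Kˣ} (hne : ν ≠ μ) {v : V}
    (hv : v ∈ eig τ ν) : proj τ μ v = 0 := by
  classical
  rw [proj_apply]
  have h1 : ∀ x : Q, (((μ x)⁻¹ : Kˣ) : K) • τ x v = ((Units.coeHom K).comp (ν / μ) x) • v := by
    intro x
    rw [hv x, smul_smul]
    congr 1
    simp [MonoidHom.div_apply, div_eq_mul_inv, mul_comm]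
  simp_rw [h1]
  rw [← Finset.sum_smul]
  have h2 : ((Units.coeHom K).comp (ν / μ) : Q →* K) ≠ 1 := by
    intro h
    apply hne
    ext x
    have h3 := congrArg (fun f : Q →* K => f x) h
    simp only [MonoidHom.comp_apply, MonoidHom.one_apply, Units.coeHom_apply] at h3
    have h4 : (ν / μ) x = 1 := Units.ext h3
    rw [MonoidHom.div_apply, div_eq_one] at h4
    rw [h4]
  rw [sum_hom_units_eq_zero _ h2, zero_smul]

/-- Two characters sharing a nonzero vector agree. -/
theorem char_eq_of_mem_eig {τ : Q →* End K V} {μ ν : Q →* Kˣ} {v : V} (h1 : v ∈ eig τ μ)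
    (h2 : v ∈ eig τ ν) (hv : v ≠ 0) : μ = ν := by
  ext y
  have h3 := h1 y
  rw [h2 y] at h3
  exact (smul_left_injective K hv h3).symm

theorem inv_apply_apply (τ : Q →* End K V) (y : Q) (v : V) : τ y⁻¹ (τ y v) = v := by
  rw [← Module.End.mul_apply, ← map_mul, inv_mul_cancel, map_one]
  rfl

theorem apply_inv_apply (τ : Q →* End K V) (y : Q) (v : V) : τ y (τ y⁻¹ v) = v := by
  rw [← Module.End.mul_apply, ← map_mul, mul_inv_cancel, map_one]
  rfl

/-- A common eigenvector of operators commuting on an invariant subspace. -/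
theorem exists_common_eig [IsAlgClosed K] [FiniteDimensional K V] (τ : Q →* End K V) (n : ℕ) :
    ∀ W : Submodule K V, finrank K W = n → W ≠ ⊥ → (∀ y, ∀ w ∈ W, τ y w ∈ W) →
      (∀ a b, ∀ w ∈ W, τ a (τ b w) = τ b (τ a w)) →
      ∃ v ∈ W, v ≠ 0 ∧ ∀ y, ∃ c : K, τ y v = c • v := by
  induction n using Nat.strong_induction_on with
  | _ n ih =>
  intro W hn hW hinv hc
  by_cases hsc : ∀ y, ∃ c : K, ∀ w ∈ W, τ y w = c • w
  · obtain ⟨v, hv, hv0⟩ := Submodule.exists_mem_ne_zero_of_ne_bot hW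
    refine ⟨v, hv, hv0, fun x => ?_⟩
    obtain ⟨c, hc'⟩ := hsc x
    exact ⟨c, hc' v hv⟩
  · push Not at hsc
    obtain ⟨x, hns⟩ := hsc
    haveI : Nontrivial W := Submodule.nontrivial_iff_ne_bot.mpr hW
    let f : Module.End K W := (τ x).restrict (hinv x)
    obtain ⟨c, hcv⟩ := Module.End.exists_eigenvalue f
    obtain ⟨w0, hw0⟩ := hcv.exists_hasEigenvector
    let W' : Submodule K V := W ⊓ Module.End.eigenspace (τ x) c
    have hw0e : τ x w0.1 = c • w0.1 := by
      have := congrArg Subtype.val hw0.apply_eq_smul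
      simpa [f] using this
    have hW'ne : W' ≠ ⊥ := by
      intro h
      have h1 : w0.1 ∈ W' := ⟨w0.2, Module.End.mem_eigenspace_iff.mpr hw0e⟩
      rw [h, Submodule.mem_bot] at h1
      exact hw0.2 (Subtype.ext h1)
    have hW'lt : W' < W := by
      refine lt_of_le_of_ne inf_le_left fun h => ?_
      obtain ⟨w, hw, hwne⟩ := hns c
      have h1 : w ∈ W' := by rw [h]; exact hw
      exact hwne (Module.End.mem_eigenspace_iff.mp h1.2)
    have hfr : finrank K W' < n := by
      rw [← hn]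
      exact Submodule.finrank_lt_finrank_of_lt hW'lt
    have hinv' : ∀ y, ∀ w ∈ W', τ y w ∈ W' := by
      intro y w hw
      refine ⟨hinv y w hw.1, Module.End.mem_eigenspace_iff.mpr ?_⟩
      rw [hc x y w hw.1, Module.End.mem_eigenspace_iff.mp hw.2, map_smul]
    obtain ⟨v, hv, hv0, hvc⟩ := ih _ hfr W' rfl hW'ne hinv'
      (fun a b w hw => hc a b w hw.1)
    exact ⟨v, hv.1, hv0, hvc⟩

/-- A weight vector in every nonzero invariant subspace on which the operators commute. -/
theorem exists_eig_in [IsAlgClosed K] [FiniteDimensional K V] (τ : Q →* End K V)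
    (W : Submodule K V) (hW : W ≠ ⊥) (hinv : ∀ y, ∀ w ∈ W, τ y w ∈ W)
    (hc : ∀ a b, ∀ w ∈ W, τ a (τ b w) = τ b (τ a w)) :
    ∃ μ : Q →* Kˣ, ∃ v ∈ W, v ≠ 0 ∧ v ∈ eig τ μ := by
  classical
  obtain ⟨v, hvW, hv0, hv⟩ := exists_common_eig τ _ W rfl hW hinv hc
  choose c hcv using hv
  have hc0 : ∀ x, c x ≠ 0 := by
    intro x h0
    have h1 := hcv x
    rw [h0, zero_smul] at h1
    have h2 := inv_apply_apply τ x v
    rw [h1, map_zero] at h2
    exact hv0 h2.symm
  let f : Q → Kˣ := fun x => Units.mk0 (c x) (hc0 x)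
  have hf : ∀ x y : Q, f (x * y) = f x * f y := by
    intro x y
    apply Units.ext
    show c (x * y) = c x * c y
    have h1 : τ (x * y) v = c (x * y) • v := hcv _
    have h2 : τ (x * y) v = τ x (τ y v) := by rw [map_mul]; rfl
    rw [h2, hcv y, map_smul, hcv x, smul_smul] at h1
    have h3 := smul_left_injective K hv0 h1
    rw [← h3, mul_comm]
  refine ⟨MonoidHom.mk' f hf, v, hvW, hv0, fun x => ?_⟩
  exact hcv x

/-- If every weight of an invariant subspace is trivial at `y`, then `y` acts trivially on it. -/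
theorem trivial_of_weights [Finite Q] [IsAlgClosed K] [FiniteDimensional K V] (τ : Q →* End K V)
    (W : Submodule K V) (hinv : ∀ y, ∀ w ∈ W, τ y w ∈ W)
    (hc : ∀ a b, ∀ w ∈ W, τ a (τ b w) = τ b (τ a w)) (hQ : (Nat.card Q : K) ≠ 0) (y : Q)
    (hy : ∀ μ : Q →* Kˣ, ∀ v ∈ W, v ≠ 0 → v ∈ eig τ μ → μ y = 1) : ∀ w ∈ W, τ y w = w := by
  classical
  let E : End K V := τ y - 1
  have hE : ∀ w, E w = τ y w - w := fun w => rfl
  by_contra hcon
  push Not at hcon
  obtain ⟨w₀, hw₀, hne⟩ := hcon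
  set W₃ : Submodule K V := W.map E with hW₃
  have hW₃ne : W₃ ≠ ⊥ := by
    intro h
    apply hne
    have h1 : E w₀ ∈ W₃ := ⟨w₀, hw₀, rfl⟩
    rw [h, Submodule.mem_bot, hE] at h1
    exact sub_eq_zero.mp h1
  have hW₃le : W₃ ≤ W := by
    rintro _ ⟨w, hw, rfl⟩
    rw [hE]
    exact W.sub_mem (hinv y w hw) hw
  have hinv₃ : ∀ a, ∀ w ∈ W₃, τ a w ∈ W₃ := by
    rintro a _ ⟨w, hw, rfl⟩
    refine ⟨τ a w, hinv a w hw, ?_⟩
    simp only [hE, map_sub]
    rw [hc y a w hw]
  obtain ⟨μ, v, hvW₃, hv0, hv⟩ := exists_eig_in τ W₃ hW₃ne hinv₃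
    (fun a b w hw => hc a b w (hW₃le hw))
  have hμ := hy μ v (hW₃le hvW₃) hv0 hv
  have hvfix : τ y v = v := by
    rw [hv y, hμ]
    simp
  obtain ⟨w, hw, rfl⟩ := hvW₃
  -- a unipotent element of order prime to the characteristic is trivial
  have hEE : E (E w) = 0 := by
    rw [hE (E w), hvfix, sub_self]
  have hk : ∀ n : ℕ, τ (y ^ n) w = w + (n : K) • E w := by
    intro n
    induction n with
    | zero => simp
    | succ n ih =>
      rw [pow_succ', map_mul, Module.End.mul_apply, ih, map_add, map_smul, hvfix]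
      have : τ y w = w + E w := by rw [hE]; abel
      rw [this]
      push_cast
      rw [add_smul, one_smul]
      abel
  have h1 := hk (Nat.card Q)
  rw [pow_card_eq_one', map_one, Module.End.one_apply] at h1
  have h2 : (Nat.card Q : K) • E w = 0 := left_eq_add.mp h1
  exact hv0 ((smul_eq_zero.mp h2).resolve_left hQ)

end Weights

section Stab

variable {K V Q A : Type*} [Field K] [AddCommGroup V] [Module K V] [Group Q] [Group A]

/-- The stabiliser of a character. -/
def stabOf (θ : A →* MulAut Q) (μ : Q →* Kˣ) : Subgroup A where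
  carrier := {a | ∀ y, μ (θ a y) = μ y}
  one_mem' := by
    intro y
    simp
  mul_mem' := by
    intro a b ha hb y
    rw [map_mul, MulAut.mul_apply, ha, hb]
  inv_mem' := by
    intro a ha y
    have h1 := ha (θ a⁻¹ y)
    rw [← h1, ← MulAut.mul_apply, ← map_mul, mul_inv_cancel, map_one, MulAut.one_apply]

theorem mem_stabOf {θ : A →* MulAut Q} {μ : Q →* Kˣ} {a : A} :
    a ∈ stabOf θ μ ↔ ∀ y, μ (θ a y) = μ y := Iff.rfl

/-- The twisted character. -/
def twist (θ : A →* MulAut Q) (a : A) (μ : Q →* Kˣ) : Q →* Kˣ :=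
  μ.comp (θ a⁻¹ : Q ≃* Q).toMonoidHom

theorem twist_apply (θ : A →* MulAut Q) (a : A) (μ : Q →* Kˣ) (y : Q) :
    twist θ a μ y = μ (θ a⁻¹ y) := rfl

theorem twist_eq_iff {θ : A →* MulAut Q} {a : A} {μ : Q →* Kˣ} :
    twist θ a μ = μ ↔ a ∈ stabOf θ μ := by
  constructor
  · intro h
    have h2 : a⁻¹ ∈ stabOf θ μ := fun y => by
      have := congrArg (fun f : Q →* Kˣ => f y) h
      exact this
    simpa using (stabOf θ μ).inv_mem h2
  · intro h
    ext y
    have h2 : a⁻¹ ∈ stabOf θ μ := (stabOf θ μ).inv_mem h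
    rw [twist_apply, h2 y]

theorem map_eig_twist {τ : Q →* End K V} {σ : A →* End K V} {θ : A →* MulAut Q}
    (hc : ∀ a y, σ a * τ y = τ (θ a y) * σ a) (a : A) {μ : Q →* Kˣ} {v : V} (hv : v ∈ eig τ μ) :
    σ a v ∈ eig τ (twist θ a μ) := by
  intro y
  have h1 := hc a (θ a⁻¹ y)
  rw [← MulAut.mul_apply, ← map_mul, mul_inv_cancel, map_one, MulAut.one_apply] at h1
  have h2 := congrArg (fun f : End K V => f v) h1
  simp only [Module.End.mul_apply] at h2
  rw [← h2, hv, map_smul]
  rfl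

/-- A vector of a weight space of `Q`, fixed by the stabiliser of its weight, gives a fixed vector
of `A` unless it vanishes. -/
theorem stab_lemma [Finite A] [Finite Q] (τ : Q →* End K V) (σ : A →* End K V) (θ : A →* MulAut Q)
    (hc : ∀ a y, σ a * τ y = τ (θ a y) * σ a) (W₀ : Submodule K V) (hW₀ : ∀ a, ∀ v ∈ W₀, σ a v ∈ W₀)
    (hfix : ∀ v ∈ W₀, (∀ a, σ a v = v) → v = 0) (hA : (Nat.card A : K) ≠ 0) (hQ : (Nat.card Q : K) ≠ 0)
    {μ : Q →* Kˣ} {v : V} (hv : v ∈ eig τ μ) (hvW : v ∈ W₀) (hst : ∀ a ∈ stabOf θ μ, σ a v = v) :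
    v = 0 := by
  classical
  letI : Fintype A := Fintype.ofFinite A
  letI : Fintype Q := Fintype.ofFinite Q
  set e : V := ∑ a : A, σ a v with he
  have heW : e ∈ W₀ := Submodule.sum_mem _ fun a _ => hW₀ a v hvW
  have hefix : ∀ b, σ b e = e := by
    intro b
    rw [he, map_sum]
    simp_rw [← Module.End.mul_apply, ← map_mul]
    exact Fintype.sum_equiv (Equiv.mulLeft b) _ _ (fun _ => rfl)
  have he0 := hfix e heW hefix
  have hp : proj τ μ e = 0 := by rw [he0, map_zero]
  rw [he, map_sum] at hp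
  have hterm : ∀ a : A, proj τ μ (σ a v) =
      if a ∈ stabOf θ μ then (Fintype.card Q : K) • v else 0 := by
    intro a
    split_ifs with h
    · rw [hst a h, proj_self hv]
    · exact proj_other (fun h2 => h (twist_eq_iff.mp h2)) (map_eig_twist hc a hv)
  simp_rw [hterm] at hp
  rw [Finset.sum_ite, Finset.sum_const_zero, add_zero, Finset.sum_const, ← Nat.cast_smul_eq_nsmul K,
    smul_smul] at hp
  have hcard : (Finset.univ.filter fun a => a ∈ stabOf θ μ).card = Nat.card (stabOf θ μ) := by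
    rw [Nat.card_eq_fintype_card, Fintype.card_subtype]
  have hS : ((Finset.univ.filter fun a => a ∈ stabOf θ μ).card : K) ≠ 0 := by
    rw [hcard]
    intro h0
    obtain ⟨d, hd⟩ := Subgroup.card_subgroup_dvd_card (stabOf θ μ)
    apply hA
    rw [hd, Nat.cast_mul, h0, zero_mul]
  have hQ' : (Fintype.card Q : K) ≠ 0 := by rwa [← Nat.card_eq_fintype_card]
  exact (smul_eq_zero.mp hp).resolve_left (mul_ne_zero hS hQ')

/-- A subgroup of a group of order `p q`, nontrivial and proper, has prime order. -/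
theorem prime_card_of_proper [Finite A] {p q : ℕ} (hp : p.Prime) (hq : q.Prime)
    (hA : Nat.card A = p * q) (S : Subgroup A) (h1 : S ≠ ⊥) (h2 : S ≠ ⊤) : (Nat.card S).Prime := by
  have hd : Nat.card S ∣ p * q := hA ▸ Subgroup.card_subgroup_dvd_card S
  have hne1 : Nat.card S ≠ 1 := fun h => h1 (Subgroup.card_eq_one.mp h)
  have hne2 : Nat.card S ≠ p * q := fun h => h2 (Subgroup.eq_top_of_card_eq S (by rw [h, hA]))
  obtain ⟨r, hr, e, he⟩ := Nat.exists_prime_and_dvd hne1
  rw [he] at hd hne2 ⊢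
  have hrd : r ∣ p * q := (Dvd.intro _ rfl).trans hd
  rcases (Nat.Prime.dvd_mul hr).mp hrd with h | h
  · have hrp : r = p := (Nat.prime_dvd_prime_iff_eq hr hp).mp h
    subst hrp
    have he' : e ∣ q := Nat.dvd_of_mul_dvd_mul_left hr.pos hd
    rcases (Nat.dvd_prime hq).mp he' with h3 | h3
    · rw [h3, mul_one]
      exact hr
    · exact absurd (by rw [h3]) hne2
  · have hrq : r = q := (Nat.prime_dvd_prime_iff_eq hr hq).mp h
    subst hrq
    rw [mul_comm p r] at hd hne2
    have he' : e ∣ p := Nat.dvd_of_mul_dvd_mul_left hr.pos hd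
    rcases (Nat.dvd_prime hp).mp he' with h3 | h3
    · rw [h3, mul_one]
      exact hr
    · exact absurd (by rw [h3]) hne2

/-- The subgroup of elements fixing a vector. -/
def fixSub (σ : A →* End K V) (v : V) : Subgroup A where
  carrier := {a | σ a v = v}
  one_mem' := by
    show σ 1 v = v
    simp
  mul_mem' := by
    intro a b ha hb
    show σ (a * b) v = v
    rw [map_mul, Module.End.mul_apply, show σ b v = v from hb, show σ a v = v from ha]
  inv_mem' := by
    intro a ha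
    show σ a⁻¹ v = v
    conv_lhs => rw [← show σ a v = v from ha]
    exact inv_apply_apply σ a v

/-- In a group of order `p q`: a proper subgroup containing `x ≠ 1` is generated by `x`. -/
theorem le_zpowers_of_proper [Finite A] {p q : ℕ} (hp : p.Prime) (hq : q.Prime)
    (hA : Nat.card A = p * q) (S : Subgroup A) (h2 : S ≠ ⊤) {x : A} (hx1 : x ≠ 1) (hxS : x ∈ S) :
    S ≤ Subgroup.zpowers x := by
  have h1 : S ≠ ⊥ := by
    rintro rfl
    exact hx1 ((Subgroup.mem_bot).mp hxS)
  haveI : Fact (Nat.card S).Prime := ⟨prime_card_of_proper hp hq hA S h1 h2⟩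
  intro a ha
  have hne : (⟨x, hxS⟩ : S) ≠ 1 := fun h => hx1 (congrArg Subtype.val h)
  have h3 := mem_zpowers_of_prime_card (G := S) rfl (g := ⟨x, hxS⟩) (g' := ⟨a, ha⟩) hne
  obtain ⟨k, hk⟩ := h3
  refine ⟨k, ?_⟩
  have := congrArg Subtype.val hk
  simpa using this

/-- The key consequence for groups of order `p q`: a weight vector fixed by a nontrivial element of the
stabiliser of its weight, when that stabiliser is proper, vanishes. -/
theorem fixed_weight_vector_eq_zero [Finite A] [Finite Q] {p q : ℕ} (hp : p.Prime) (hq : q.Prime)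
    (hAc : Nat.card A = p * q) (τ : Q →* End K V) (σ : A →* End K V) (θ : A →* MulAut Q)
    (hc : ∀ a y, σ a * τ y = τ (θ a y) * σ a) (W₀ : Submodule K V) (hW₀ : ∀ a, ∀ v ∈ W₀, σ a v ∈ W₀)
    (hfix : ∀ v ∈ W₀, (∀ a, σ a v = v) → v = 0) (hA : (Nat.card A : K) ≠ 0) (hQ : (Nat.card Q : K) ≠ 0)
    {μ : Q →* Kˣ} (hne : stabOf θ μ ≠ ⊤) {x : A} (hx1 : x ≠ 1) (hxS : x ∈ stabOf θ μ) {v : V}
    (hv : v ∈ eig τ μ) (hvW : v ∈ W₀) (hvx : σ x v = v) : v = 0 := by
  refine stab_lemma τ σ θ hc W₀ hW₀ hfix hA hQ hv hvW ?_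
  intro a ha
  have h1 := le_zpowers_of_proper hp hq hAc _ hne hx1 hxS ha
  have h2 : Subgroup.zpowers x ≤ fixSub σ v := (Subgroup.zpowers_le).mpr hvx
  exact h2 h1

/-- A weight vector forces a nontrivial stabiliser. -/
theorem stab_ne_bot [Finite A] [Finite Q] (τ : Q →* End K V) (σ : A →* End K V) (θ : A →* MulAut Q)
    (hc : ∀ a y, σ a * τ y = τ (θ a y) * σ a) (W₀ : Submodule K V) (hW₀ : ∀ a, ∀ v ∈ W₀, σ a v ∈ W₀)
    (hfix : ∀ v ∈ W₀, (∀ a, σ a v = v) → v = 0) (hA : (Nat.card A : K) ≠ 0) (hQ : (Nat.card Q : K) ≠ 0)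
    {μ : Q →* Kˣ} {v : V} (hv : v ∈ eig τ μ) (hvW : v ∈ W₀) (hv0 : v ≠ 0) : stabOf θ μ ≠ ⊥ := by
  intro h
  apply hv0
  refine stab_lemma τ σ θ hc W₀ hW₀ hfix hA hQ hv hvW ?_
  intro a ha
  rw [h, Subgroup.mem_bot] at ha
  rw [ha, map_one]
  rfl

end Stab

end Cfsg.Agent.Lib.PqFpf
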