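import Mathlib
import Cfsg.Agent.Lib.PqFpf.Weights
import Cfsg.Agent.Lib.S3Fpf.Final
import Cfsg.Agent.Lib.Coprime.Coset
import Cfsg.Agent.Lib.Coprime.InvSylow

/-!
# Coprime actions, and the dual of a normal subgroup
-/

set_option autoImplicit false
set_option linter.style.haveILetI false

namespace Cfsg.Agent.Lib.PqFpf

open Module Cfsg.Agent.Lib.S3Fpf

section Act

variable {Γ A : Type*} [Group Γ] [Group A]

/-- `α(A)` normalises `H`. -/
def Norm (α : A →* Γ) (H : Subgroup Γ) : Prop := ∀ a, ∀ y ∈ H, α a * y * (α a)⁻¹ ∈ H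

/-- `α(A)` has no nontrivial fixed point on `H`. -/
def Fpf (α : A →* Γ) (H : Subgroup Γ) : Prop := ∀ g ∈ H, (∀ a, α a * g * (α a)⁻¹ = g) → g = 1

theorem Norm.inv_mem {α : A →* Γ} {H : Subgroup Γ} (h : Norm α H) (a : A) {y : Γ} (hy : y ∈ H) :
    (α a)⁻¹ * y * α a ∈ H := by
  have := h a⁻¹ y hy
  simpa using this

/-- The conjugation action of `A` on a normalised subgroup. -/
def conjOn (α : A →* Γ) (H : Subgroup Γ) (hH : Norm α H) : A →* MulAut H where
  toFun a :=
    { toFun := fun y => ⟨α a * y * (α a)⁻¹, hH a y y.2⟩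
      invFun := fun y => ⟨(α a)⁻¹ * y * α a, hH.inv_mem a y.2⟩
      left_inv := fun y => by
        apply Subtype.ext
        simp [mul_assoc]
      right_inv := fun y => by
        apply Subtype.ext
        simp [mul_assoc]
      map_mul' := fun x y => by
        apply Subtype.ext
        simp [mul_assoc] }
  map_one' := by
    ext y
    simp
  map_mul' a b := by
    ext y
    simp [mul_assoc, MulAut.mul_apply]

theorem conjOn_coe (α : A →* Γ) (H : Subgroup Γ) (hH : Norm α H) (a : A) (y : H) :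
    ((conjOn α H hH a y : H) : Γ) = α a * y * (α a)⁻¹ := rfl

variable [Finite Γ] [Finite A]

theorem range_le_normalizer {α : A →* Γ} {H : Subgroup Γ} (h : Norm α H) :
    α.range ≤ Subgroup.normalizer (H : Set Γ) := by
  apply Cfsg.Agent.Lib.Coprime.InvSylow.le_normalizer_of_forall_conj_mem
  rintro _ ⟨a, rfl⟩ x hx
  exact h a x hx

theorem coprime_range {α : A →* Γ} {H : Subgroup Γ} (h : (Nat.card A).Coprime (Nat.card H)) :
    (Nat.card α.range).Coprime (Nat.card H) := by
  have h1 : Nat.card α.range ∣ Nat.card A := by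
    have := Subgroup.card_map_dvd (⊤ : Subgroup A) α
    rw [Subgroup.card_top, ← MonoidHom.range_eq_map] at this
    exact this
  exact Nat.Coprime.coprime_dvd_left h1 h

/-- The coset lemma: with no fixed points, every element of `H` fixing the coset of `t` modulo an
invariant subgroup `S` lies in `S`. -/
theorem mem_of_coset_fixed {α : A →* Γ} {H S : Subgroup Γ} (hH : Norm α H)
    (hcop : (Nat.card A).Coprime (Nat.card H)) (hsolv : Group.IsSolvable H) (hfpf : Fpf α H)
    (hSH : S ≤ H) (hS : Norm α S) {t : Γ} (ht : t ∈ H)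
    (hst : ∀ a, t⁻¹ * (α a * t * (α a)⁻¹) ∈ S) : t ∈ S := by
  obtain ⟨c, hc, htc⟩ := Cfsg.Agent.Lib.Coprime.Coset.exists_centralizer_mem_coset (A := α.range) (K := H)
    (N := S) (range_le_normalizer hH) (coprime_range hcop) (Or.inr hsolv) hSH (range_le_normalizer hS) t ht
    (by
      rintro _ ⟨a, rfl⟩
      exact hst a)
  have hc1 : c = 1 := by
    apply hfpf c hc.1
    intro a
    have h1 := Subgroup.mem_centralizer_iff.mp hc.2 (α a) ⟨a, rfl⟩
    rw [h1]
    group
  rw [hc1, mul_one] at htc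
  simpa using S.inv_mem htc

/-- Subgroups inherit the absence of fixed points. -/
theorem Fpf.mono {α : A →* Γ} {H S : Subgroup Γ} (h : Fpf α H) (hS : S ≤ H) : Fpf α S :=
  fun g hg hfix => h g (hS hg) hfix

theorem Norm.inf {α : A →* Γ} {H S : Subgroup Γ} (h1 : Norm α H) (h2 : Norm α S) : Norm α (H ⊓ S) :=
  fun a y hy => ⟨h1 a y hy.1, h2 a y hy.2⟩

/-- The image under a homomorphism: fixed points lift. -/
theorem Fpf.map {Γ' : Type*} [Group Γ'] {α : A →* Γ} {H : Subgroup Γ} (π : Γ →* Γ') (hH : Norm α H)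
    (hcop : (Nat.card A).Coprime (Nat.card H)) (hsolv : Group.IsSolvable H) (hfpf : Fpf α H) :
    Fpf (π.comp α) (H.map π) := by
  rintro _ ⟨x, hx, rfl⟩ hfix
  have hmem : x ∈ H ⊓ π.ker := by
    refine mem_of_coset_fixed (S := H ⊓ π.ker) hH hcop hsolv hfpf inf_le_left ?_ hx ?_
    · refine Norm.inf hH ?_
      intro a y hy
      rw [MonoidHom.mem_ker] at hy ⊢
      simp [hy]
    · intro a
      refine ⟨H.mul_mem (H.inv_mem hx) (hH a x hx), ?_⟩
      show _ ∈ π.ker
      rw [MonoidHom.mem_ker]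
      have h1 := hfix a
      simp only [MonoidHom.comp_apply] at h1
      rw [map_mul, map_inv, map_mul, map_mul, map_inv, h1, inv_mul_cancel]
  exact hmem.2

theorem Norm.map {Γ' : Type*} [Group Γ'] {α : A →* Γ} {H : Subgroup Γ} (π : Γ →* Γ') (hH : Norm α H) :
    Norm (π.comp α) (H.map π) := by
  rintro a _ ⟨x, hx, rfl⟩
  exact ⟨α a * x * (α a)⁻¹, hH a x hx, by simp⟩

end Act

section Sep

theorem exists_sep {P : Type*} [Group P] [Finite P] {p : ℕ} [hp : Fact p.Prime] (hP : IsPGroup p P)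
    {K : Type*} [Field K] [CharP K p] {R : Subgroup P} (hR : frattini P ≤ R) {a : P} (ha : a ∉ R) :
    ∃ f : Additive P →+ K, (∀ r ∈ R, f (Additive.ofMul r) = 0) ∧ f (Additive.ofMul a) ≠ 0 := by
  classical
  obtain ⟨V, _, _, π, -, hker⟩ := Cfsg.Agent.Lib.PGroup.FrattiniBasis.exists_vector_space hP
  let S : Submodule (ZMod p) V :=
    { carrier := {v | ∃ r ∈ R, Multiplicative.toAdd (π r) = v}
      add_mem' := by
        rintro _ _ ⟨r, hr, rfl⟩ ⟨s, hs, rfl⟩
        exact ⟨r * s, R.mul_mem hr hs, by simp⟩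
      zero_mem' := ⟨1, R.one_mem, by simp⟩
      smul_mem' := by
        rintro c _ ⟨r, hr, rfl⟩
        refine ⟨r ^ c.val, R.pow_mem hr _, ?_⟩
        rw [map_pow, toAdd_pow, ← Nat.cast_smul_eq_nsmul (ZMod p), ZMod.natCast_zmod_val] }
  have hnot : Multiplicative.toAdd (π a) ∉ S := by
    rintro ⟨r, hr, hra⟩
    apply ha
    have h1 : r⁻¹ * a ∈ π.ker := by
      rw [MonoidHom.mem_ker, map_mul, map_inv, Multiplicative.toAdd.injective hra, inv_mul_cancel]
    rw [hker] at h1
    have h2 := R.mul_mem hr (hR h1)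
    simpa using h2
  obtain ⟨φ, h1, h2⟩ := Submodule.exists_dual_map_eq_bot_of_notMem hnot inferInstance
  let c : ZMod p →+* K := ZMod.castHom (dvd_refl p) K
  let f : Additive P →+ K :=
    (c.toAddMonoidHom.comp φ.toAddMonoidHom).comp (MonoidHom.toAdditiveLeft π)
  have hf : ∀ x : P, f (Additive.ofMul x) = c (φ (Multiplicative.toAdd (π x))) := fun _ => rfl
  refine ⟨f, ?_, ?_⟩
  · intro r hr
    rw [hf]
    have h3 : φ (Multiplicative.toAdd (π r)) ∈ S.map φ := ⟨_, ⟨r, hr, rfl⟩, rfl⟩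
    rw [h2, Submodule.mem_bot] at h3
    rw [h3, map_zero]
  · rw [hf]
    intro h3
    exact h1 ((map_eq_zero c).mp h3)

end Sep

section LemmaF

variable {Γ A K : Type*} [Group Γ] [Group A] [Finite Γ] [Finite A] [Field K]

variable (α : A →* Γ) (N Z : Subgroup Γ) [hN : N.Normal]

/-- The representation of `Z` on the dual of the normal subgroup `N`. -/
noncomputable def dualZ : Z →* End K (Additive N →+ K) := (dualRep N).comp Z.subtype

/-- The representation of `A` on the dual of the normal subgroup `N`. -/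
noncomputable def dualA : A →* End K (Additive N →+ K) := (dualRep N).comp α

variable {α N Z}

theorem dualZ_apply (z : Z) (f : Additive N →+ K) (n : N) :
    dualZ N Z z f (Additive.ofMul n) = f (Additive.ofMul (MulAut.conjNormal (z : Γ)⁻¹ n)) := rfl

theorem dualA_apply (a : A) (f : Additive N →+ K) (n : N) :
    dualA α N a f (Additive.ofMul n) = f (Additive.ofMul (MulAut.conjNormal (α a)⁻¹ n)) := rfl

theorem dualA_compat (hZ : Norm α Z) (a : A) (y : Z) :
    (dualA α N a : End K (Additive N →+ K)) * dualZ N Z y = dualZ N Z (conjOn α Z hZ a y) * dualA α N a := by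
  show dualRep N (α a) * dualRep N (y : Γ) = dualRep N (α a * y * (α a)⁻¹) * dualRep N (α a)
  rw [← map_mul, ← map_mul]
  congr 1
  group

theorem dualA_fixed_eq_zero (hNnorm : Norm α N) (hcop : (Nat.card A).Coprime (Nat.card N))
    (hsolv : Group.IsSolvable N) (hfpf : Fpf α N) (f : Additive N →+ K)
    (hf : ∀ a, dualA α N a f = f) : f = 0 := by
  classical
  let f' : N →* Multiplicative K := AddMonoidHom.toMultiplicativeRight f
  set S : Subgroup Γ := f'.ker.map N.subtype with hS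
  have hSN : S ≤ N := Subgroup.map_subtype_le _
  have hmemS : ∀ y : N, (y : Γ) ∈ S ↔ f (Additive.ofMul y) = 0 := by
    intro y
    constructor
    · rintro ⟨y', hy', hyy⟩
      have h1 : y' = y := Subtype.ext hyy
      subst h1
      exact hy'
    · intro h
      exact ⟨y, h, rfl⟩
  have hconj : ∀ (a : A) (y : N), f (Additive.ofMul (MulAut.conjNormal (α a) y)) = f (Additive.ofMul y) := by
    intro a y
    have h1 := congrArg (fun F : Additive N →+ K => F (Additive.ofMul (MulAut.conjNormal (α a) y))) (hf a)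
    simp only [dualA_apply] at h1
    have e : MulAut.conjNormal (α a)⁻¹ (MulAut.conjNormal (α a) y) = y := by
      apply Subtype.ext
      simp [MulAut.conjNormal_apply]
    rw [e] at h1
    exact h1.symm
  have hSnorm : Norm α S := by
    rintro a _ ⟨y, hy, rfl⟩
    have h1 : f (Additive.ofMul y) = 0 := hy
    have h2 : α a * (y : Γ) * (α a)⁻¹ = ((MulAut.conjNormal (α a) y : N) : Γ) := by
      simp
    change α a * (y : Γ) * (α a)⁻¹ ∈ S
    rw [h2, hmemS, hconj, h1]
  ext y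
  have hy : (y : Γ) ∈ S := by
    refine mem_of_coset_fixed hNnorm hcop hsolv hfpf hSN hSnorm y.2 ?_
    intro a
    have h2 : (y : Γ)⁻¹ * (α a * (y : Γ) * (α a)⁻¹) = ((y⁻¹ * MulAut.conjNormal (α a) y : N) : Γ) := by
      simp [MulAut.conjNormal_apply]
    rw [h2, hmemS, ofMul_mul, map_add, hconj, ofMul_inv, map_neg, neg_add_cancel]
  exact (hmemS y).mp hy

/-- Hypotheses shared by the dual arguments. -/
structure DualSetup (α : A →* Γ) (N Z : Subgroup Γ) (p q t s : ℕ) : Prop where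
  hp : p.Prime
  hq : q.Prime
  cardA : Nat.card A = p * q
  ht : t.Prime
  hs : s.Prime
  hst : s ≠ t
  Npg : IsPGroup t N
  Zpg : IsPGroup s Z
  tA : (Nat.card A).Coprime t
  sA : (Nat.card A).Coprime s
  normN : Norm α N
  normZ : Norm α Z
  fpfN : Fpf α N
  fpfZ : Fpf α Z
  comm : ∀ z ∈ Z, ∀ z' ∈ Z, ∀ n ∈ N, (z * z') * n * (z * z')⁻¹ = (z' * z) * n * (z' * z)⁻¹

namespace DualSetup

variable {p q t s : ℕ} (h : DualSetup α N Z p q t s)
include h

theorem copN : (Nat.card A).Coprime (Nat.card N) := by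
  haveI : Fact t.Prime := ⟨h.ht⟩
  obtain ⟨k, hk⟩ := IsPGroup.iff_card.mp h.Npg
  rw [hk]
  exact Nat.Coprime.pow_right _ h.tA

theorem copZ : (Nat.card A).Coprime (Nat.card Z) := by
  haveI : Fact s.Prime := ⟨h.hs⟩
  obtain ⟨k, hk⟩ := IsPGroup.iff_card.mp h.Zpg
  rw [hk]
  exact Nat.Coprime.pow_right _ h.sA

theorem solvN : Group.IsSolvable N := by
  haveI : Fact t.Prime := ⟨h.ht⟩
  haveI : Group.IsNilpotent N := h.Npg.isNilpotent
  infer_instance

theorem solvZ : Group.IsSolvable Z := by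
  haveI : Fact s.Prime := ⟨h.hs⟩
  haveI : Group.IsNilpotent Z := h.Zpg.isNilpotent
  infer_instance

theorem card_A_ne [CharP K t] : (Nat.card A : K) ≠ 0 := by
  intro h0
  rw [CharP.cast_eq_zero_iff K t] at h0
  have := Nat.eq_one_of_dvd_coprimes h.tA.symm (dvd_refl t) h0
  exact h.ht.one_lt.ne' this

theorem card_Z_ne [CharP K t] : (Nat.card Z : K) ≠ 0 := by
  haveI : Fact s.Prime := ⟨h.hs⟩
  intro h0
  rw [CharP.cast_eq_zero_iff K t] at h0
  obtain ⟨k, hk⟩ := IsPGroup.iff_card.mp h.Zpg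
  rw [hk] at h0
  have h1 := h.ht.dvd_of_dvd_pow h0
  exact h.hst ((Nat.prime_dvd_prime_iff_eq h.ht h.hs).mp h1).symm

/-- A character of `Z` fixed by `A` is trivial. -/
theorem stab_ne_top {μ : Z →* Kˣ} (hμ : μ ≠ 1) : stabOf (conjOn α Z h.normZ) μ ≠ ⊤ := by
  intro htop
  apply hμ
  set S : Subgroup Γ := μ.ker.map Z.subtype with hS
  have hSZ : S ≤ Z := Subgroup.map_subtype_le _
  have hmem : ∀ y : Z, (y : Γ) ∈ S ↔ μ y = 1 := by
    intro y
    constructor
    · rintro ⟨y', hy', hyy⟩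
      have h1 : y' = y := Subtype.ext hyy
      subst h1
      exact hy'
    · intro h1
      exact ⟨y, h1, rfl⟩
  have hst : ∀ (a : A) (y : Z), μ (conjOn α Z h.normZ a y) = μ y := by
    intro a y
    have ha : a ∈ stabOf (conjOn α Z h.normZ) μ := by rw [htop]; trivial
    exact ha y
  have hSnorm : Norm α S := by
    rintro a _ ⟨y, hy, rfl⟩
    have h1 : μ y = 1 := hy
    show α a * (y : Γ) * (α a)⁻¹ ∈ S
    rw [← conjOn_coe α Z h.normZ, hmem, hst, h1]
  ext y
  have hy : (y : Γ) ∈ S := by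
    refine mem_of_coset_fixed h.normZ h.copZ h.solvZ h.fpfZ hSZ hSnorm y.2 ?_
    intro a
    rw [← conjOn_coe α Z h.normZ a y, ← Subgroup.coe_inv, ← Subgroup.coe_mul, hmem, map_mul, map_inv, hst,
      inv_mul_cancel]
  have h1 := (hmem y).mp hy
  rw [h1]
  rfl

/-- The key fact: a weight vector of a nontrivial character of `Z` fixed by an element `x ≠ 1` of `A`
vanishes. -/
theorem dual_key [CharP K t] {μ : Z →* Kˣ} (hμ : μ ≠ 1) {f : Additive N →+ K}
    (hf : f ∈ eig (dualZ N Z) μ) {x : A} (hx : x ≠ 1) (hxf : dualA α N x f = f) : f = 0 := by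
  by_contra hf0
  have hc : ∀ a y, (dualA α N a : End K (Additive N →+ K)) * dualZ N Z y =
      dualZ N Z (conjOn α Z h.normZ a y) * dualA α N a := dualA_compat h.normZ
  have hxS : x ∈ stabOf (conjOn α Z h.normZ) μ := by
    rw [← twist_eq_iff]
    have h1 := map_eig_twist hc x hf
    rw [hxf] at h1
    exact char_eq_of_mem_eig h1 hf hf0
  exact hf0 (fixed_weight_vector_eq_zero h.hp h.hq h.cardA (dualZ N Z) (dualA α N)
    (conjOn α Z h.normZ) hc ⊤ (fun _ _ _ => trivial)
    (fun v _ hv => dualA_fixed_eq_zero h.normN h.copN h.solvN h.fpfN v hv) h.card_A_ne h.card_Z_ne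
    (h.stab_ne_top hμ) hx hxS hf trivial hxf)

theorem dualZ_comm (a b : Z) (f : Additive N →+ K) :
    dualZ N Z a (dualZ N Z b f) = dualZ N Z b (dualZ N Z a f) := by
  refine AddMonoidHom.ext fun y => ?_
  obtain ⟨y, rfl⟩ := Additive.ofMul.surjective y
  rw [dualZ_apply, dualZ_apply, dualZ_apply, dualZ_apply]
  congr 2
  apply Subtype.ext
  simp only [MulAut.conjNormal_apply]
  have h1 := h.comm (b : Γ)⁻¹ (Z.inv_mem b.2) (a : Γ)⁻¹ (Z.inv_mem a.2) y y.2
  simp only [mul_inv_rev, inv_inv] at h1 ⊢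
  simpa [mul_assoc] using h1

/-- The main lemma of this file. -/
theorem comm_mem_of_trivial_action {R : Subgroup Γ} (hRN : R ≤ N) (hRZ : ∀ z ∈ Z, ∀ r ∈ R, z * r * z⁻¹ ∈ R)
    (hΦ : (frattini N).map N.subtype ≤ R) {x : A} (hx : x ≠ 1)
    (hxR : ∀ n ∈ N, α x * n * (α x)⁻¹ * n⁻¹ ∈ R) : ∀ z ∈ Z, ∀ n ∈ N, z * n * z⁻¹ * n⁻¹ ∈ R := by
  classical
  haveI : Fact t.Prime := ⟨h.ht⟩
  let K' := AlgebraicClosure (ZMod t)
  -- the annihilator of `R`
  let W : Submodule K' (Additive N →+ K') :=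
    { carrier := {f | ∀ r : N, (r : Γ) ∈ R → f (Additive.ofMul r) = 0}
      add_mem' := by
        intro a b ha hb r hr
        rw [AddMonoidHom.add_apply, ha r hr, hb r hr, add_zero]
      zero_mem' := fun _ _ => rfl
      smul_mem' := by
        intro c a ha r hr
        rw [AddMonoidHom.smul_apply, ha r hr, smul_zero] }
  have hWmem : ∀ f, f ∈ W ↔ ∀ r : N, (r : Γ) ∈ R → f (Additive.ofMul r) = 0 := fun _ => Iff.rfl
  have hWinv : ∀ y : Z, ∀ f ∈ W, dualZ N Z y f ∈ W := by
    intro y f hf r hr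
    rw [dualZ_apply]
    apply hf
    have h1 := hRZ (y : Γ)⁻¹ (Z.inv_mem y.2) r hr
    simpa [MulAut.conjNormal_apply] using h1
  have hx1 : ∀ f ∈ W, dualA α N x f = f := by
    intro f hf
    refine AddMonoidHom.ext fun y => ?_
    obtain ⟨y, rfl⟩ := Additive.ofMul.surjective y
    rw [dualA_apply]
    set m : N := MulAut.conjNormal (α x)⁻¹ y with hm
    have h1 : (((m * y⁻¹ : N)) : Γ) ∈ R := by
      have h2 := hxR m m.2
      have h3 : α x * (m : Γ) * (α x)⁻¹ = y := by
        simp [hm, MulAut.conjNormal_apply, mul_assoc]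
      rw [h3] at h2
      have h4 := R.inv_mem h2
      simpa using h4
    have h2 := hf _ h1
    rw [ofMul_mul, map_add, ofMul_inv, map_neg] at h2
    exact add_neg_eq_zero.mp h2
  have htriv : ∀ y : Z, ∀ f ∈ W, dualZ N Z y f = f := by
    intro y
    refine trivial_of_weights (K := K') (dualZ N Z) W hWinv
      (fun a b w _ => h.dualZ_comm a b w) h.card_Z_ne y ?_
    intro μ f hfW hf0 hf
    by_cases hμ : μ = 1
    · rw [hμ]
      rfl
    · exact absurd (h.dual_key hμ hf hx (hx1 f hfW)) hf0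
  intro z hz n hn
  by_contra hcon
  let Rn : Subgroup N := R.subgroupOf N
  have hΦ' : frattini N ≤ Rn := by
    intro g hg
    exact hΦ ⟨g, hg, rfl⟩
  have hcmem : z * n * z⁻¹ * n⁻¹ ∈ N := by
    exact N.mul_mem (hN.conj_mem n hn z) (N.inv_mem hn)
  have hnot : (⟨_, hcmem⟩ : N) ∉ Rn := hcon
  obtain ⟨f, hf1, hf2⟩ := exists_sep (K := K') h.Npg hΦ' hnot
  have hfW : f ∈ W := fun r hr => hf1 r hr
  have h1 := htriv ⟨z⁻¹, Z.inv_mem hz⟩ f hfW
  have h2 := congrArg (fun F : Additive N →+ K' => F (Additive.ofMul (⟨n, hn⟩ : N))) h1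
  simp only [dualZ_apply] at h2
  apply hf2
  have h3 : (⟨_, hcmem⟩ : N) = MulAut.conjNormal (((⟨z⁻¹, Z.inv_mem hz⟩ : Z) : Γ))⁻¹ ⟨n, hn⟩ * (⟨n, hn⟩ : N)⁻¹ := by
    apply Subtype.ext
    simp [MulAut.conjNormal_apply]
  rw [h3, ofMul_mul, map_add, h2, ofMul_inv, map_neg, add_neg_cancel]

end DualSetup

end LemmaF

end Cfsg.Agent.Lib.PqFpf
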