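import Mathlib
import Cfsg.Agent.Lib.PqFpf.Weights

/-!
# An automorphism of Fermat prime order on a symplectic space over `𝔽₂`

`X` of order `ℓ = 2 ^ m + 1` preserves a nondegenerate form on an `𝔽₂`-space `U` with `|[U, X]| = 2 ^ (2 m)`.
An abelian group `Q` of odd order prime to `ℓ`, normalised by `X` and preserving the form, whose nontrivial
weights fixed by `X` carry no fixed vector of `X`, acts trivially.
-/

set_option autoImplicit false
set_option linter.style.haveILetI false

namespace Cfsg.Agent.Lib.PqFpf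

open Module Polynomial

section Arith

theorem pow_num {N d : ℕ} (h : N ^ 2 = 2 ^ d) : ∃ m, N = 2 ^ m ∧ d = 2 * m := by
  have h1 : N ∣ 2 ^ d := ⟨N, by rw [← h, sq]⟩
  obtain ⟨m, -, rfl⟩ := (Nat.dvd_prime_pow Nat.prime_two).mp h1
  refine ⟨m, rfl, ?_⟩
  rw [← pow_mul] at h
  have := Nat.pow_right_injective (le_refl 2) h
  omega

theorem not_dvd_two_pow_sub {m d : ℕ} (h1 : 1 ≤ d) (h2 : d < 2 * m) : ¬ (2 ^ m + 1) ∣ 2 ^ d - 1 := by
  intro h
  have hpos : 0 < 2 ^ d - 1 := by
    have : 2 ^ 1 ≤ 2 ^ d := Nat.pow_le_pow_right (by norm_num) h1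
    omega
  by_cases hdm : d ≤ m
  · have h3 := Nat.le_of_dvd hpos h
    have h4 : 2 ^ d ≤ 2 ^ m := Nat.pow_le_pow_right (by norm_num) hdm
    omega
  · obtain ⟨e, rfl⟩ : ∃ e, d = m + e := ⟨d - m, by omega⟩
    have he : e < m := by omega
    have he1 : 1 ≤ e := by omega
    have h5 : 2 ^ e * (2 ^ m + 1) = (2 ^ (m + e) - 1) + (2 ^ e + 1) := by
      have : 2 ^ (m + e) = 2 ^ e * 2 ^ m := by rw [pow_add, mul_comm]
      have h6 : 1 ≤ 2 ^ (m + e) := Nat.one_le_two_pow
      rw [Nat.mul_add, ← this]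
      omega
    have h7 : (2 ^ m + 1) ∣ 2 ^ e + 1 := by
      have h8 : (2 ^ m + 1) ∣ (2 ^ (m + e) - 1) + (2 ^ e + 1) := ⟨2 ^ e, by rw [← h5, mul_comm]⟩
      exact (Nat.dvd_add_right h).mp h8
    have h9 := Nat.le_of_dvd (by positivity) h7
    have h10 : 2 ^ (e + 1) ≤ 2 ^ m := Nat.pow_le_pow_right (by norm_num) he
    have h11 : 2 ^ e + 1 < 2 ^ m + 1 := by
      have : 2 ^ (e + 1) = 2 * 2 ^ e := by rw [pow_succ, mul_comm]
      have h12 : 1 ≤ 2 ^ e := Nat.one_le_two_pow
      omega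
    omega

end Arith

section Linear

variable {U : Type*} [AddCommGroup U] [Module (ZMod 2) U]
variable (X : End (ZMod 2) U) {ℓ : ℕ}

theorem pow_sub_self_mem (n : ℕ) (u : U) : (X ^ n) u - u ∈ LinearMap.range (X - 1) := by
  induction n generalizing u with
  | zero => simp
  | succ n ih =>
    have h1 : (X ^ (n + 1)) u - u = ((X ^ n) (X u) - X u) + (X - 1) u := by
      rw [pow_succ, Module.End.mul_apply]
      simp
    rw [h1]
    exact Submodule.add_mem _ (ih _) ⟨u, rfl⟩

theorem apply_range_mem {u : U} (hu : u ∈ LinearMap.range (X - 1)) : X u ∈ LinearMap.range (X - 1) := by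
  obtain ⟨w, rfl⟩ := hu
  refine ⟨X w, ?_⟩
  simp

theorem nsmul_odd {n : ℕ} (hn : Odd n) (a : U) : n • a = a := by
  rw [← Nat.cast_smul_eq_nsmul (ZMod 2), (ZMod.natCast_eq_one_iff_odd).mpr hn, one_smul]

theorem geom_apply_fixed (hX : X ^ ℓ = 1) (u : U) :
    X ((∑ i ∈ Finset.range ℓ, X ^ i) u) = (∑ i ∈ Finset.range ℓ, X ^ i) u := by
  have h1 : (X - 1) * (∑ i ∈ Finset.range ℓ, X ^ i) = 0 := by
    rw [mul_geom_sum, hX, sub_self]
  have h2 := congrArg (fun f : End (ZMod 2) U => f u) h1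
  simp only [Module.End.mul_apply, LinearMap.sub_apply, Module.End.one_apply,
    LinearMap.zero_apply] at h2
  exact sub_eq_zero.mp h2

theorem fixed_inf_range (hX : X ^ ℓ = 1) (hℓ : Odd ℓ) {a : U} (h1 : X a = a)
    (h2 : a ∈ LinearMap.range (X - 1)) : a = 0 := by
  have hfix : ∀ i : ℕ, (X ^ i) a = a := by
    intro i
    induction i with
    | zero => simp
    | succ i ih => rw [pow_succ, Module.End.mul_apply, h1, ih]
  have h3 : (∑ i ∈ Finset.range ℓ, X ^ i) a = a := by
    rw [LinearMap.sum_apply]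
    simp_rw [hfix]
    rw [Finset.sum_const, Finset.card_range, nsmul_odd hℓ]
  obtain ⟨b, rfl⟩ := h2
  have h4 : (∑ i ∈ Finset.range ℓ, X ^ i) * (X - 1) = 0 := by
    rw [geom_sum_mul, hX, sub_self]
  have h5 := congrArg (fun f : End (ZMod 2) U => f b) h4
  simp only [Module.End.mul_apply, LinearMap.zero_apply] at h5
  rw [← h3]
  exact h5

theorem exists_decomp (hX : X ^ ℓ = 1) (hℓ : Odd ℓ) (u : U) :
    ∃ c, X c = c ∧ ∃ b ∈ LinearMap.range (X - 1), u = c + b := by
  refine ⟨(∑ i ∈ Finset.range ℓ, X ^ i) u, geom_apply_fixed X hX u,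
    u - (∑ i ∈ Finset.range ℓ, X ^ i) u, ?_, by abel⟩
  have h1 : (∑ i ∈ Finset.range ℓ, X ^ i) u - u = ∑ i ∈ Finset.range ℓ, ((X ^ i) u - u) := by
    rw [LinearMap.sum_apply, Finset.sum_sub_distrib, Finset.sum_const, Finset.card_range, nsmul_odd hℓ]
  have h2 : (∑ i ∈ Finset.range ℓ, X ^ i) u - u ∈ LinearMap.range (X - 1) := by
    rw [h1]
    exact Submodule.sum_mem _ fun i _ => pow_sub_self_mem X i u
  have h3 : u - (∑ i ∈ Finset.range ℓ, X ^ i) u = -((∑ i ∈ Finset.range ℓ, X ^ i) u - u) := by abel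
  rw [h3]
  exact Submodule.neg_mem _ h2

variable (ε : LinearMap.BilinForm (ZMod 2) U)

theorem ortho_range (hinv : ∀ u v, ε (X u) (X v) = ε u v) {c b : U} (hc : X c = c)
    (hb : b ∈ LinearMap.range (X - 1)) : ε c b = 0 := by
  obtain ⟨w, rfl⟩ := hb
  have h1 : (X - 1) w = X w - w := rfl
  rw [h1, map_sub]
  have h2 := hinv c w
  rw [hc] at h2
  rw [h2, sub_self]

theorem nd_range (hX : X ^ ℓ = 1) (hℓ : Odd ℓ) (hsymm : ∀ u v, ε u v = ε v u)
    (hnd : ∀ u, (∀ v, ε u v = 0) → u = 0) (hinv : ∀ u v, ε (X u) (X v) = ε u v) {a : U}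
    (ha : a ∈ LinearMap.range (X - 1)) (h : ∀ b ∈ LinearMap.range (X - 1), ε a b = 0) : a = 0 := by
  apply hnd
  intro v
  obtain ⟨c, hc, b, hb, rfl⟩ := exists_decomp X hX hℓ v
  rw [map_add, h b hb, hsymm a c, ortho_range X ε hinv hc ha, add_zero]

variable {X ε}

section Cyc

variable [Finite U]

/-- The cyclic module generated by a nonzero vector is everything, by counting. -/
theorem cyclic_of_card (hX : X ^ ℓ = 1) (hℓ : ℓ.Prime) (hodd : Odd ℓ) {m : ℕ} (hℓm : ℓ = 2 ^ m + 1)
    (hd : finrank (ZMod 2) (LinearMap.range (X - 1)) = 2 * m) {u₀ : U}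
    (hu₀ : u₀ ∈ LinearMap.range (X - 1)) (hne : u₀ ≠ 0) :
    ∀ u ∈ LinearMap.range (X - 1), ∃ g : (ZMod 2)[X], u = aeval X g u₀ := by
  classical
  haveI : Module.Finite (ZMod 2) U := Module.Finite.of_finite
  let L : (ZMod 2)[X] →ₗ[ZMod 2] U := (LinearMap.applyₗ u₀).comp (aeval X).toLinearMap
  have hL : ∀ g, L g = aeval X g u₀ := fun g => rfl
  set S : Submodule (ZMod 2) U := LinearMap.range L with hS
  have hSle : S ≤ LinearMap.range (X - 1) := by
    rintro _ ⟨g, rfl⟩
    rw [hL]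
    induction g using Polynomial.induction_on' with
    | add p q hp hq =>
      rw [map_add, LinearMap.add_apply]
      exact Submodule.add_mem _ hp hq
    | monomial n a =>
      rw [aeval_monomial, Module.End.mul_apply]
      have h1 : ∀ k : ℕ, (X ^ k) u₀ ∈ LinearMap.range (X - 1) := by
        intro k
        induction k with
        | zero => simpa using hu₀
        | succ k ih =>
          rw [pow_succ', Module.End.mul_apply]
          exact apply_range_mem X ih
      have h2 : (algebraMap (ZMod 2) (End (ZMod 2) U) a) ((X ^ n) u₀) = a • (X ^ n) u₀ := rfl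
      rw [h2]
      exact Submodule.smul_mem _ _ (h1 n)
  have hXS : ∀ s ∈ S, X s ∈ S := by
    rintro _ ⟨g, rfl⟩
    refine ⟨Polynomial.X * g, ?_⟩
    rw [hL, hL, map_mul, aeval_X, Module.End.mul_apply]
  have hu₀S : u₀ ∈ S := ⟨1, by rw [hL, map_one]; rfl⟩
  have hSne : S ≠ ⊥ := by
    intro h
    rw [h, Submodule.mem_bot] at hu₀S
    exact hne hu₀S
  set d := finrank (ZMod 2) S with hdS
  have hd1 : 1 ≤ d := by
    have := Submodule.one_le_finrank_iff.mpr hSne
    exact this
  have hdle : d ≤ 2 * m := by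
    rw [← hd]
    exact Submodule.finrank_mono hSle
  letI : Fintype S := Fintype.ofFinite _
  have hcard : Fintype.card S = 2 ^ d := by
    rw [card_eq_pow_finrank (K := ZMod 2) (V := S), ZMod.card]
  haveI : Fact ℓ.Prime := ⟨hℓ⟩
  let f : Function.End S := fun s => ⟨X s.1, hXS s.1 s.2⟩
  have hfpow : ∀ k : ℕ, ∀ s : S, ((f ^ k) s : U) = (X ^ k) s.1 := by
    intro k s
    induction k with
    | zero =>
      rw [pow_zero, pow_zero]
      rfl
    | succ k ih =>
      rw [pow_succ', pow_succ', Module.End.mul_apply, ← ih]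
      rfl
  have hf1 : f ^ ℓ ^ 1 = 1 := by
    funext s
    apply Subtype.ext
    rw [pow_one, hfpow, hX]
    rfl
  have hmod := Equiv.Perm.card_fixedPoints_modEq (p := ℓ) (n := 1) hf1
  have hfix : Fintype.card (Function.fixedPoints f) = 1 := by
    rw [Fintype.card_eq_one_iff]
    refine ⟨⟨0, ?_⟩, ?_⟩
    · show f 0 = 0
      apply Subtype.ext
      show X 0 = 0
      simp
    · rintro ⟨s, hs⟩
      apply Subtype.ext
      apply Subtype.ext
      have h1 : X s.1 = s.1 := congrArg Subtype.val hs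
      exact fixed_inf_range X hX hodd h1 (hSle s.2)
  rw [hfix, hcard] at hmod
  have hdvd : ℓ ∣ 2 ^ d - 1 := (Nat.modEq_iff_dvd' Nat.one_le_two_pow).mp hmod.symm
  have hdeq : d = 2 * m := by
    by_contra hne2
    have : d < 2 * m := lt_of_le_of_ne hdle hne2
    rw [hℓm] at hdvd
    exact not_dvd_two_pow_sub hd1 this hdvd
  have hSeq : S = LinearMap.range (X - 1) :=
    Submodule.eq_of_le_of_finrank_eq hSle (by rw [hd, ← hdeq])
  intro u hu
  rw [← hSeq] at hu
  obtain ⟨g, rfl⟩ := hu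
  exact ⟨g, rfl⟩

end Cyc

theorem aeval_pow_two_pow (X : End (ZMod 2) U) (g : (ZMod 2)[X]) (m : ℕ) :
    aeval (X ^ (2 ^ m)) g = (aeval X g) ^ (2 ^ m) := by
  rw [← expand_aeval]
  have h : ∀ m : ℕ, expand (ZMod 2) (2 ^ m) g = g ^ (2 ^ m) := by
    intro m
    induction m with
    | zero => simp
    | succ m ih =>
      rw [pow_succ', expand_mul, ih, ZMod.expand_card, ← pow_mul, mul_comm]
  rw [h, map_pow]

theorem adjoint_aeval {X X' : End (ZMod 2) U} (hXX' : X * X' = 1)
    (hinv : ∀ u v, ε (X u) (X v) = ε u v) (g : (ZMod 2)[X]) (a c : U) :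
    ε (aeval X g a) c = ε a (aeval X' g c) := by
  have h1 : ∀ a c, ε (X a) c = ε a (X' c) := by
    intro a c
    have h2 := hinv a (X' c)
    rw [← Module.End.mul_apply X X' c, hXX', Module.End.one_apply] at h2
    exact h2
  have h2 : ∀ n : ℕ, ∀ a c, ε ((X ^ n) a) c = ε a ((X' ^ n) c) := by
    intro n
    induction n with
    | zero => intro a c; simp
    | succ n ih =>
      intro a c
      rw [pow_succ', Module.End.mul_apply, h1, ih, ← Module.End.mul_apply, ← pow_succ]
  induction g using Polynomial.induction_on' with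
  | add p q hp hq =>
    simp only [map_add, LinearMap.add_apply, hp, hq]
  | monomial n b =>
    rw [aeval_monomial, aeval_monomial, Module.End.mul_apply, Module.End.mul_apply]
    have e1 : ∀ w : U, (algebraMap (ZMod 2) (End (ZMod 2) U) b) w = b • w := fun _ => rfl
    rw [e1, e1, map_smul, map_smul, LinearMap.smul_apply, h2]

/-- An operator commuting with `X` and preserving the form has order dividing `ℓ` on `[U, X]`. -/
theorem pow_eq_on_range [Finite U] (hX : X ^ ℓ = 1) (hℓ : ℓ.Prime) (hodd : Odd ℓ) {m : ℕ}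
    (hℓm : ℓ = 2 ^ m + 1) (hd : finrank (ZMod 2) (LinearMap.range (X - 1)) = 2 * m)
    (hsymm : ∀ u v, ε u v = ε v u) (hnd : ∀ u, (∀ v, ε u v = 0) → u = 0)
    (hinv : ∀ u v, ε (X u) (X v) = ε u v) (z : End (ZMod 2) U) (hzX : z * X = X * z)
    (hzε : ∀ u v, ε (z u) (z v) = ε u v) {c : U} (hc : c ∈ LinearMap.range (X - 1)) :
    (z ^ ℓ) c = c := by
  classical
  by_cases hc0 : c = 0
  · rw [hc0, map_zero]
  -- a generator
  have hzmem : ∀ u ∈ LinearMap.range (X - 1), z u ∈ LinearMap.range (X - 1) := by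
    rintro _ ⟨w, rfl⟩
    refine ⟨z w, ?_⟩
    have h1 := congrArg (fun f : End (ZMod 2) U => f w) hzX
    simp only [Module.End.mul_apply] at h1
    simp [h1]
  have hcyc := cyclic_of_card hX hℓ hodd hℓm hd hc hc0
  obtain ⟨g, hg⟩ := hcyc (z c) (hzmem c hc)
  set G : End (ZMod 2) U := aeval X g with hG
  have hzaeval : ∀ h : (ZMod 2)[X], z * aeval X h = aeval X h * z := by
    intro h
    induction h using Polynomial.induction_on' with
    | add p q hp hq => rw [map_add, mul_add, add_mul, hp, hq]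
    | monomial n b =>
      rw [aeval_monomial]
      have h1 : ∀ k : ℕ, z * X ^ k = X ^ k * z := by
        intro k
        exact (show Commute z X from hzX).pow_right k
      have h2 : Commute z (algebraMap (ZMod 2) (End (ZMod 2) U) b) := Algebra.commutes _ _ |>.symm
      rw [← mul_assoc, h2.eq, mul_assoc, h1, ← mul_assoc]
  have hzG : ∀ a ∈ LinearMap.range (X - 1), z a = G a := by
    intro a ha
    obtain ⟨h, rfl⟩ := hcyc a ha
    have h1 := congrArg (fun f : End (ZMod 2) U => f c) (hzaeval h)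
    simp only [Module.End.mul_apply] at h1
    rw [h1, hg, ← Module.End.mul_apply, ← Module.End.mul_apply, ← map_mul, ← map_mul, mul_comm]
  have hzpow : ∀ k : ℕ, ∀ a ∈ LinearMap.range (X - 1), (z ^ k) a = (G ^ k) a := by
    intro k
    induction k with
    | zero => intro a _; simp
    | succ k ih =>
      intro a ha
      rw [pow_succ', Module.End.mul_apply, ih a ha, pow_succ', Module.End.mul_apply, hzG]
      have hpow : ∀ j : ℕ, (z ^ j) a ∈ LinearMap.range (X - 1) := by
        intro j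
        induction j with
        | zero => simpa using ha
        | succ j ihj =>
          rw [pow_succ', Module.End.mul_apply]
          exact hzmem _ ihj
      rw [← ih a ha]
      exact hpow k
  -- the adjoint computation
  set X' : End (ZMod 2) U := X ^ (2 ^ m) with hX'
  have hXX' : X * X' = 1 := by
    rw [hX', ← pow_succ', ← hℓm, hX]
  have hadj : ∀ a b, ε (G a) b = ε a ((G ^ (2 ^ m)) b) := by
    intro a b
    rw [hG, adjoint_aeval hXX' hinv, hX', aeval_pow_two_pow]
  have hkey : ∀ a ∈ LinearMap.range (X - 1), ε a ((z ^ ℓ) c - c) = 0 := by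
    intro a ha
    have h1 := hzε a c
    rw [hzG a ha, hzG c hc, hadj, ← Module.End.mul_apply, ← pow_succ, ← hℓm] at h1
    rw [map_sub, hzpow ℓ c hc, h1, sub_self]
  have hmem : (z ^ ℓ) c - c ∈ LinearMap.range (X - 1) := by
    refine Submodule.sub_mem _ ?_ hc
    rw [hzpow ℓ c hc]
    have hGmem : ∀ j : ℕ, (G ^ j) c ∈ LinearMap.range (X - 1) := by
      intro j
      induction j with
      | zero => simpa using hc
      | succ j ihj =>
        rw [pow_succ', Module.End.mul_apply, ← hzG _ ihj]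
        exact hzmem _ ihj
    exact hGmem ℓ
  have h0 := nd_range X ε hX hodd hsymm hnd hinv hmem
    (fun b hb => by rw [hsymm]; exact hkey b hb)
  exact sub_eq_zero.mp h0

end Linear

section Dual

variable {U : Type*} [AddCommGroup U] [Module (ZMod 2) U]
variable {K : Type*} [Field K] [Algebra (ZMod 2) K]
variable {Q : Type*} [Group Q]

/-- Precomposition with an endomorphism. -/
def preComp (g : End (ZMod 2) U) : End K (U →ₗ[ZMod 2] K) where
  toFun f := f ∘ₗ g
  map_add' _ _ := rfl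
  map_smul' _ _ := rfl

theorem preComp_apply (g : End (ZMod 2) U) (f : U →ₗ[ZMod 2] K) (u : U) :
    preComp g f u = f (g u) := rfl

/-- The dual representation. -/
def dualK (r : Q →* End (ZMod 2) U) : Q →* End K (U →ₗ[ZMod 2] K) where
  toFun y := preComp (r y⁻¹)
  map_one' := by
    ext f u
    simp [preComp_apply]
  map_mul' a b := by
    ext f u
    simp [preComp_apply, mul_inv_rev, Module.End.mul_apply]

theorem dualK_apply (r : Q →* End (ZMod 2) U) (y : Q) (f : U →ₗ[ZMod 2] K) (u : U) :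
    dualK r y f u = f (r y⁻¹ u) := rfl

theorem exists_functional {S : Submodule (ZMod 2) U} {a : U} (ha : a ∉ S) :
    ∃ f : U →ₗ[ZMod 2] K, (∀ s ∈ S, f s = 0) ∧ f a ≠ 0 := by
  obtain ⟨φ, h1, h2⟩ := Submodule.exists_dual_map_eq_bot_of_notMem ha inferInstance
  refine ⟨(Algebra.linearMap (ZMod 2) K).comp φ, ?_, ?_⟩
  · intro s hs
    have h3 : φ s ∈ S.map φ := ⟨s, hs, rfl⟩
    rw [h2, Submodule.mem_bot] at h3
    simp [h3]
  · intro h3
    apply h1
    have h4 : algebraMap (ZMod 2) K (φ a) = 0 := h3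
    exact (map_eq_zero_iff _ (algebraMap (ZMod 2) K).injective).mp h4

variable (ε : LinearMap.BilinForm (ZMod 2) U)

/-- The inverse of a weight of a self-dual module is a weight. -/
theorem dual_weight [Finite U] [Finite Q] (hsymm : ∀ u v, ε u v = ε v u)
    (hnd : ∀ u, (∀ v, ε u v = 0) → u = 0) (r : Q →* End (ZMod 2) U)
    (hrε : ∀ y u v, ε (r y u) (r y v) = ε u v) (hQ : (Nat.card Q : K) ≠ 0) {μ : Q →* Kˣ}
    {f : U →ₗ[ZMod 2] K} (hf : f ∈ eig (dualK r) μ) (hf0 : f ≠ 0) :
    ∃ g : U →ₗ[ZMod 2] K, g ≠ 0 ∧ g ∈ eig (dualK r) μ⁻¹ := by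
  classical
  letI : Fintype Q := Fintype.ofFinite Q
  haveI : Module.Finite (ZMod 2) U := Module.Finite.of_finite
  obtain ⟨v, hv⟩ : ∃ v, f v ≠ 0 := by
    by_contra h
    push Not at h
    exact hf0 (LinearMap.ext h)
  let g₀ : U →ₗ[ZMod 2] K := (Algebra.linearMap (ZMod 2) K).comp (ε v)
  have hg₀ : ∀ w, g₀ w = algebraMap (ZMod 2) K (ε v w) := fun _ => rfl
  set g : U →ₗ[ZMod 2] K := ∑ y : Q, ((μ y : Kˣ) : K) • dualK r y g₀ with hg
  have hgw : ∀ w, g w = ∑ y : Q, ((μ y : Kˣ) : K) * algebraMap (ZMod 2) K (ε (r y v) w) := by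
    intro w
    rw [hg, LinearMap.sum_apply]
    refine Finset.sum_congr rfl fun y _ => ?_
    rw [LinearMap.smul_apply, dualK_apply, hg₀, smul_eq_mul]
    have h1 := hrε y v (r y⁻¹ w)
    rw [← Module.End.mul_apply (r y), ← map_mul, mul_inv_cancel, map_one, Module.End.one_apply] at h1
    rw [h1]
  refine ⟨g, ?_, ?_⟩
  · intro hg0
    -- the dual basis
    let b := Module.finBasis (ZMod 2) U
    have hsurj : Function.Surjective (ε : U →ₗ[ZMod 2] Module.Dual (ZMod 2) U) := by
      refine (LinearMap.injective_iff_surjective_of_finrank_eq_finrank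
        (Subspace.dual_finrank_eq).symm).mp ?_
      rw [injective_iff_map_eq_zero]
      intro u hu
      exact hnd u (fun w => by rw [hu]; rfl)
    choose d hd using fun j => hsurj (b.coord j)
    have hexp : ∀ u, f u = ∑ j, algebraMap (ZMod 2) K (ε (d j) u) * f (b j) := by
      intro u
      conv_lhs => rw [← b.sum_repr u]
      rw [map_sum]
      refine Finset.sum_congr rfl fun j _ => ?_
      rw [map_smul, Algebra.smul_def, hd]
      rfl
    have hval : ∀ y, f (r y v) = (((μ y)⁻¹ : Kˣ) : K) * f v := by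
      intro y
      have h1 := hf y⁻¹
      have h2 := congrArg (fun F : U →ₗ[ZMod 2] K => F v) h1
      simp only [LinearMap.smul_apply, dualK_apply, inv_inv, smul_eq_mul, map_inv] at h2
      exact h2
    have hsum : (Fintype.card Q : K) * f v = ∑ y : Q, ((μ y : Kˣ) : K) * f (r y v) := by
      have h1 : ∀ y : Q, ((μ y : Kˣ) : K) * f (r y v) = f v := by
        intro y
        rw [hval, ← mul_assoc]
        simp
      simp_rw [h1]
      rw [Finset.sum_const, Finset.card_univ, nsmul_eq_mul]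
    have hzero : ∑ y : Q, ((μ y : Kˣ) : K) * f (r y v) = 0 := by
      simp_rw [hexp (r _ v), Finset.mul_sum]
      rw [Finset.sum_comm]
      refine Finset.sum_eq_zero fun j _ => ?_
      have h1 := hgw (d j)
      rw [hg0, LinearMap.zero_apply] at h1
      have h2 : ∑ y : Q, ((μ y : Kˣ) : K) * (algebraMap (ZMod 2) K (ε (d j) (r y v)) * f (b j)) =
          (∑ y : Q, ((μ y : Kˣ) : K) * algebraMap (ZMod 2) K (ε (r y v) (d j))) * f (b j) := by
        rw [Finset.sum_mul]
        refine Finset.sum_congr rfl fun y _ => ?_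
        rw [hsymm (d j), mul_assoc]
      rw [h2, ← h1, zero_mul]
    rw [hzero] at hsum
    rw [Nat.card_eq_fintype_card] at hQ
    exact hv ((mul_eq_zero.mp hsum).resolve_left hQ)
  · intro y'
    rw [hg, map_sum]
    have h1 : ∀ y : Q, dualK r y' (((μ y : Kˣ) : K) • dualK r y g₀) =
        ((μ⁻¹ y' : Kˣ) : K) • (((μ (y' * y) : Kˣ) : K) • dualK r (y' * y) g₀) := by
      intro y
      rw [map_smul, ← Module.End.mul_apply, ← map_mul, smul_smul, map_mul]
      congr 1
      simp
    simp_rw [h1]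
    rw [← Finset.smul_sum]
    congr 1
    exact Fintype.sum_equiv (Equiv.mulLeft y') _ _ (fun _ => rfl)

/-- Independence step: differences of weight vectors in distinct weight spaces. -/
theorem diff_indep [Finite Q] {V : Type*} [AddCommGroup V] [Module K V] (τ : Q →* End K V)
    (hQ : (Nat.card Q : K) ≠ 0) (n : ℕ) (c : ℕ → Q →* Kˣ) (v : ℕ → V)
    (hv : ∀ i ≤ n, v i ∈ eig τ (c i)) (hne : ∀ i ≤ n, v i ≠ 0)
    (hinj : ∀ i ≤ n, ∀ j ≤ n, c i = c j → i = j) (a : Fin n → K) (w : V)
    (hw : ∀ i ≤ n, ∀ [Fintype Q], proj τ (c i) w = 0)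
    (hrel : ∑ j : Fin n, a j • (v (j + 1) - v j) + w = 0) : ∀ j, a j = 0 := by
  classical
  letI : Fintype Q := Fintype.ofFinite Q
  have hQ' : (Fintype.card Q : K) ≠ 0 := by rwa [← Nat.card_eq_fintype_card]
  have key : ∀ i (hi : i < n), a ⟨i, hi⟩ = 0 := by
    intro i
    induction i using Nat.strong_induction_on with
    | _ i ih =>
    intro hi
    have h1 := congrArg (proj τ (c i)) hrel
    rw [map_add, map_zero, hw i hi.le, add_zero, map_sum] at h1
    rw [Finset.sum_eq_single (⟨i, hi⟩ : Fin n)] at h1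
    · rw [map_smul, map_sub, proj_self (hv i hi.le),
        proj_other (fun h => ?_) (hv (i + 1) (by omega)), zero_sub, smul_neg, neg_eq_zero, smul_smul] at h1
      · exact (mul_eq_zero.mp ((smul_eq_zero.mp h1).resolve_right (hne i hi.le))).resolve_right hQ'
      · have := hinj _ (by omega) _ hi.le h
        omega
    · intro j _ hj
      have hji : (j : ℕ) ≠ i := fun h => hj (Fin.ext h)
      by_cases hlt : (j : ℕ) < i
      · have := ih j hlt j.2
        have h2 : a j = 0 := this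
        rw [h2, zero_smul, map_zero]
      · have hgt : i < (j : ℕ) := by omega
        rw [map_smul, map_sub, proj_other (fun h => ?_) (hv (j + 1) (by omega)),
          proj_other (fun h => ?_) (hv j j.2.le), sub_self, smul_zero]
        · have := hinj _ j.2.le _ hi.le h
          omega
        · have := hinj _ (by omega) _ hi.le h
          omega
    · intro h
      exact absurd (Finset.mem_univ _) h
  intro j
  exact key j j.2

/-- A nontrivial weight moved by an element of order `ℓ` forces `[U, X]` to be large. -/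
theorem moved_count [Finite U] [Finite Q] {X X' : End (ZMod 2) U} {ℓ : ℕ} (hℓ : ℓ.Prime)
    (hodd : Odd ℓ) (hX : X ^ ℓ = 1) (hXX' : X * X' = 1) (hX'X : X' * X = 1)
    (r : Q →* End (ZMod 2) U) (θ : MulAut Q) (hθ : ∀ y, X * r y = r (θ y) * X)
    (hQ : (Nat.card Q : K) ≠ 0) (hQodd : Odd (Nat.card Q)) {μ : Q →* Kˣ} {f g : U →ₗ[ZMod 2] K}
    (hf : f ∈ eig (dualK r) μ) (hf0 : f ≠ 0) (hg : g ∈ eig (dualK r) μ⁻¹) (hg0 : g ≠ 0)
    (hμ : μ.comp (θ : Q ≃* Q).toMonoidHom ≠ μ) :
    2 * (ℓ - 1) ≤ finrank (ZMod 2) (LinearMap.range (X - 1)) := by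
  classical
  haveI : Module.Finite (ZMod 2) U := Module.Finite.of_finite
  letI : Fintype Q := Fintype.ofFinite Q
  have hℓ1 : 1 < ℓ := hℓ.one_lt
  have hX'pow : X' ^ ℓ = 1 := by
    have h1 : (X * X') ^ ℓ = X ^ ℓ * X' ^ ℓ := by
      have : Commute X X' := by
        show X * X' = X' * X
        rw [hXX', hX'X]
      exact this.mul_pow ℓ
    rw [hXX', one_pow, hX, one_mul] at h1
    exact h1.symm
  let Xt : End K (U →ₗ[ZMod 2] K) := preComp X'
  have hXtpow : ∀ (k : ℕ) (h : U →ₗ[ZMod 2] K), (Xt ^ k) h = h ∘ₗ (X' ^ k) := by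
    intro k h
    induction k generalizing h with
    | zero =>
      ext u
      simp
    | succ k ih =>
      rw [pow_succ, Module.End.mul_apply, ih]
      ext u
      rw [pow_succ']
      rfl
  have hXtinj : ∀ (k : ℕ) (h : U →ₗ[ZMod 2] K), h ≠ 0 → (Xt ^ k) h ≠ 0 := by
    intro k h hh h0
    apply hh
    have h1 := congrArg (fun F => (Xt ^ (ℓ * k - k)) F) h0
    simp only [map_zero] at h1
    rw [← Module.End.mul_apply, ← pow_add] at h1
    have h2 : ℓ * k - k + k = ℓ * k := by
      have : k ≤ ℓ * k := Nat.le_mul_of_pos_left k hℓ.pos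
      omega
    rw [h2, hXtpow, pow_mul, hX'pow, one_pow] at h1
    ext u
    have h3 := congrArg (fun F : U →ₗ[ZMod 2] K => F u) h1
    simpa using h3
  have hXtdual : ∀ y, Xt * dualK r y = dualK r (θ y) * Xt := by
    intro y
    ext h u
    show h (r y⁻¹ (X' u)) = h (X' (r (θ y)⁻¹ u))
    congr 1
    have h1 := hθ y⁻¹
    have e : θ y⁻¹ = (θ y)⁻¹ := map_inv θ y
    rw [e] at h1
    have h2 : r y⁻¹ * X' = X' * r (θ y)⁻¹ := by
      calc r y⁻¹ * X' = (X' * X) * r y⁻¹ * X' := by rw [hX'X, one_mul]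
        _ = X' * (X * r y⁻¹) * X' := by simp only [mul_assoc]
        _ = X' * (r (θ y)⁻¹ * X) * X' := by rw [h1]
        _ = X' * r (θ y)⁻¹ * (X * X') := by simp only [mul_assoc]
        _ = X' * r (θ y)⁻¹ := by rw [hXX', mul_one]
    exact congrArg (fun F : End (ZMod 2) U => F u) h2
  set g₁ : MulAut Q := θ⁻¹ with hg₁
  have hXteig : ∀ {ν : Q →* Kˣ} {h : U →ₗ[ZMod 2] K}, h ∈ eig (dualK r) ν →
      Xt h ∈ eig (dualK r) (ν.comp (g₁ : Q ≃* Q).toMonoidHom) := by
    intro ν h hh y
    have h1 := hXtdual (g₁ y)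
    have h2 : θ (g₁ y) = y := by
      rw [hg₁]
      simp
    rw [h2] at h1
    have h3 := congrArg (fun F : End K (U →ₗ[ZMod 2] K) => F h) h1
    simp only [Module.End.mul_apply] at h3
    rw [← h3, hh, map_smul]
    rfl
  have hXtpoweig : ∀ (k : ℕ) {ν : Q →* Kˣ} {h : U →ₗ[ZMod 2] K}, h ∈ eig (dualK r) ν →
      (Xt ^ k) h ∈ eig (dualK r) (ν.comp ((g₁ ^ k : MulAut Q) : Q ≃* Q).toMonoidHom) := by
    intro k ν h hh
    induction k with
    | zero =>
      have e : ν.comp ((g₁ ^ 0 : MulAut Q) : Q ≃* Q).toMonoidHom = ν := by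
        ext y
        simp
      rw [e, pow_zero]
      exact hh
    | succ k ih =>
      have h0 : (Xt ^ (k + 1)) h = Xt ((Xt ^ k) h) := by
        rw [pow_succ', Module.End.mul_apply]
      rw [h0]
      have h1 := hXteig ih
      have h2 : (ν.comp ((g₁ ^ k : MulAut Q) : Q ≃* Q).toMonoidHom).comp (g₁ : Q ≃* Q).toMonoidHom =
          ν.comp ((g₁ ^ (k + 1) : MulAut Q) : Q ≃* Q).toMonoidHom := by
        ext y
        simp [pow_succ]
      rwa [h2] at h1
  -- the stabiliser
  let H : Subgroup (MulAut Q) :=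
    { carrier := {φ | μ.comp (φ : Q ≃* Q).toMonoidHom = μ}
      one_mem' := by
        ext y
        simp
      mul_mem' := by
        intro a b ha hb
        have ha' : μ.comp (a : Q ≃* Q).toMonoidHom = μ := ha
        have hb' : μ.comp (b : Q ≃* Q).toMonoidHom = μ := hb
        show μ.comp ((a * b : MulAut Q) : Q ≃* Q).toMonoidHom = μ
        ext y
        have h1 := congrArg (fun F : Q →* Kˣ => F (b y)) ha'
        have h2 := congrArg (fun F : Q →* Kˣ => F y) hb'
        simp only [MonoidHom.comp_apply, MulEquiv.coe_toMonoidHom] at h1 h2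
        simp only [MonoidHom.comp_apply, MulEquiv.coe_toMonoidHom, MulAut.mul_apply]
        rw [h1, h2]
      inv_mem' := by
        intro a ha
        have ha' : μ.comp (a : Q ≃* Q).toMonoidHom = μ := ha
        show μ.comp ((a⁻¹ : MulAut Q) : Q ≃* Q).toMonoidHom = μ
        ext y
        have h1 := congrArg (fun F : Q →* Kˣ => F (a⁻¹ y)) ha'
        simp only [MonoidHom.comp_apply, MulEquiv.coe_toMonoidHom, MulAut.apply_inv_self] at h1
        simp only [MonoidHom.comp_apply, MulEquiv.coe_toMonoidHom]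
        rw [h1] }
  have hHmem : ∀ φ : MulAut Q, φ ∈ H ↔ μ.comp (φ : Q ≃* Q).toMonoidHom = μ := fun _ => Iff.rfl
  have hg₁ℓ : g₁ ^ ℓ ∈ H := by
    rw [hHmem]
    have h1 := hXtpoweig ℓ hf
    have h2 : (Xt ^ ℓ) f = f := by
      rw [hXtpow, hX'pow]
      rfl
    rw [h2] at h1
    exact char_eq_of_mem_eig h1 hf hf0
  have hg₁H : g₁ ∉ H := by
    intro h
    apply hμ
    rw [hHmem] at h
    have h1 : θ ∈ H := by
      have := H.inv_mem ((hHmem g₁).mpr h)
      rwa [hg₁, inv_inv] at this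
    exact h1
  have hnotdvd : ∀ k : ℤ, g₁ ^ k ∈ H → (ℓ : ℤ) ∣ k := by
    intro k hk
    by_contra hnd
    apply hg₁H
    have hcop : IsCoprime (ℓ : ℤ) k := by
      exact (Nat.prime_iff_prime_int.mp hℓ).coprime_iff_not_dvd.mpr hnd
    obtain ⟨a, b, hab⟩ := hcop
    have h1 : g₁ = (g₁ ^ ℓ) ^ a * (g₁ ^ k) ^ b := by
      rw [← zpow_natCast, ← zpow_mul, ← zpow_mul, ← zpow_add]
      have : (ℓ : ℤ) * a + k * b = 1 := by rw [← hab]; ring
      rw [this, zpow_one]
    rw [h1]
    exact H.mul_mem (H.zpow_mem hg₁ℓ a) (H.zpow_mem hk b)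
  -- characters
  let c : ℕ → Q →* Kˣ := fun i => μ.comp ((g₁ ^ i : MulAut Q) : Q ≃* Q).toMonoidHom
  let c' : ℕ → Q →* Kˣ := fun i => μ⁻¹.comp ((g₁ ^ i : MulAut Q) : Q ≃* Q).toMonoidHom
  have hcc' : ∀ i, c' i = (c i)⁻¹ := by
    intro i
    ext y
    rfl
  have hdiff : ∀ i j : ℕ, c i = c j → g₁ ^ ((j : ℤ) - i) ∈ H := by
    intro i j h
    rw [hHmem]
    ext y
    have h1 := congrArg (fun F : Q →* Kˣ => F ((g₁ ^ (i : ℤ))⁻¹ y)) h
    simp only [c, MonoidHom.comp_apply, MulEquiv.coe_toMonoidHom] at h1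
    have h2 : (g₁ ^ i : MulAut Q) ((g₁ ^ (i : ℤ))⁻¹ y) = y := by
      rw [← MulAut.mul_apply, zpow_natCast, mul_inv_cancel, MulAut.one_apply]
    have h3 : (g₁ ^ j : MulAut Q) ((g₁ ^ (i : ℤ))⁻¹ y) = (g₁ ^ ((j : ℤ) - i) : MulAut Q) y := by
      rw [← MulAut.mul_apply, ← zpow_natCast g₁ j, ← zpow_sub]
    rw [h2, h3] at h1
    simp only [MonoidHom.comp_apply, MulEquiv.coe_toMonoidHom]
    exact congrArg Units.val h1.symm
  have hinj : ∀ i < ℓ, ∀ j < ℓ, c i = c j → i = j := by
    intro i hi j hj h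
    have h1 := hnotdvd _ (hdiff i j h)
    have h2 : |((j : ℤ) - i)| < ℓ := by
      rw [abs_lt]
      constructor <;> omega
    have h3 := Int.eq_zero_of_abs_lt_dvd h1 h2
    omega
  have hμ2 : ∀ y, (μ y) ^ 2 = 1 → μ y = 1 := by
    intro y h
    have h1 : (μ y) ^ Nat.card Q = 1 := by
      rw [← map_pow, pow_card_eq_one', map_one]
    have h2 : orderOf (μ y) ∣ 2 := orderOf_dvd_of_pow_eq_one h
    have h3 : orderOf (μ y) ∣ Nat.card Q := orderOf_dvd_of_pow_eq_one h1
    have h4 : Nat.Coprime 2 (Nat.card Q) := (Nat.coprime_two_left).mpr hQodd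
    exact orderOf_eq_one_iff.mp (Nat.eq_one_of_dvd_coprimes h4 h2 h3)
  have hcross : ∀ i j : ℕ, i < ℓ → j < ℓ → c i ≠ c' j := by
    intro i j hi hj h
    rw [hcc'] at h
    -- `c i = (c j)⁻¹`
    have h1 : ∀ y, μ ((g₁ ^ ((i : ℤ) - j) : MulAut Q) y) = (μ y)⁻¹ := by
      intro y
      have h2 := congrArg (fun F : Q →* Kˣ => F ((g₁ ^ (j : ℤ))⁻¹ y)) h
      simp only [c, MonoidHom.inv_apply, MonoidHom.comp_apply, MulEquiv.coe_toMonoidHom] at h2
      have h3 : (g₁ ^ j : MulAut Q) ((g₁ ^ (j : ℤ))⁻¹ y) = y := by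
        rw [← MulAut.mul_apply, zpow_natCast, mul_inv_cancel, MulAut.one_apply]
      have h4 : (g₁ ^ i : MulAut Q) ((g₁ ^ (j : ℤ))⁻¹ y) = (g₁ ^ ((i : ℤ) - j) : MulAut Q) y := by
        rw [← MulAut.mul_apply, ← zpow_natCast g₁ i, ← zpow_sub]
      rw [h3, h4] at h2
      exact h2
    have h5 : g₁ ^ (2 * ((i : ℤ) - j)) ∈ H := by
      rw [hHmem]
      ext y
      have e : (g₁ ^ (2 * ((i : ℤ) - j)) : MulAut Q) y =
          (g₁ ^ ((i : ℤ) - j) : MulAut Q) ((g₁ ^ ((i : ℤ) - j) : MulAut Q) y) := by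
        rw [← MulAut.mul_apply, ← zpow_add, two_mul]
      simp only [MonoidHom.comp_apply, MulEquiv.coe_toMonoidHom]
      rw [e, h1, h1, inv_inv]
    have h6 := hnotdvd _ h5
    have h7 : (ℓ : ℤ) ∣ (i : ℤ) - j := by
      have hcop : IsCoprime (ℓ : ℤ) 2 := by
        have : Nat.Coprime ℓ 2 := (Nat.coprime_two_right).mpr hodd
        exact_mod_cast Nat.isCoprime_iff_coprime.mpr this
      exact hcop.dvd_of_dvd_mul_left h6
    have h8 : |((i : ℤ) - j)| < ℓ := by
      rw [abs_lt]
      constructor <;> omega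
    have h9 := Int.eq_zero_of_abs_lt_dvd h7 h8
    have hij : i = j := by omega
    subst hij
    apply hμ
    have h10 : ∀ y, μ y = 1 := by
      intro y
      have h11 := h1 y
      rw [sub_self, zpow_zero, MulAut.one_apply] at h11
      apply hμ2
      rw [sq]
      nth_rw 1 [h11]
      simp
    ext y
    simp [h10]
  -- the vectors
  set n := ℓ - 1 with hn
  let v : ℕ → U →ₗ[ZMod 2] K := fun i => (Xt ^ i) f
  let v' : ℕ → U →ₗ[ZMod 2] K := fun i => (Xt ^ i) g
  have hv : ∀ i, v i ∈ eig (dualK r) (c i) := fun i => hXtpoweig i hf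
  have hv' : ∀ i, v' i ∈ eig (dualK r) (c' i) := fun i => hXtpoweig i hg
  have hv0 : ∀ i, v i ≠ 0 := fun i => hXtinj i f hf0
  have hv'0 : ∀ i, v' i ≠ 0 := fun i => hXtinj i g hg0
  have hinj' : ∀ i < ℓ, ∀ j < ℓ, c' i = c' j → i = j := by
    intro i hi j hj h
    rw [hcc', hcc'] at h
    exact hinj i hi j hj (inv_injective h)
  have hXtv : ∀ i, (Xt - 1) (v i) = v (i + 1) - v i := by
    intro i
    simp only [v, LinearMap.sub_apply, Module.End.one_apply]
    rw [pow_succ', Module.End.mul_apply]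
  have hXtv' : ∀ i, (Xt - 1) (v' i) = v' (i + 1) - v' i := by
    intro i
    simp only [v', LinearMap.sub_apply, Module.End.one_apply]
    rw [pow_succ', Module.End.mul_apply]
  let b : Fin n ⊕ Fin n → (U →ₗ[ZMod 2] K) :=
    Sum.elim (fun i => (Xt - 1) (v i)) (fun i => (Xt - 1) (v' i))
  have hb : LinearIndependent K b := by
    rw [Fintype.linearIndependent_iff]
    intro a ha
    rw [Fintype.sum_sum_type] at ha
    simp only [b, Sum.elim_inl, Sum.elim_inr, hXtv, hXtv'] at ha
    have h1 : ∀ j, a (Sum.inl j) = 0 := by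
      refine diff_indep (dualK r) hQ n c v (fun i _ => hv i) (fun i _ => hv0 i)
        (fun i hi j hj h => hinj i (by omega) j (by omega) h) (fun j => a (Sum.inl j))
        (∑ j : Fin n, a (Sum.inr j) • (v' (j + 1) - v' j)) ?_ ha
      intro i hi _
      rw [map_sum]
      refine Finset.sum_eq_zero fun j _ => ?_
      rw [map_smul, map_sub, proj_other (fun h => ?_) (hv' _), proj_other (fun h => ?_) (hv' _),
        sub_self, smul_zero]
      · exact hcross i j (by omega) (by omega) h.symm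
      · exact hcross i (j + 1) (by omega) (by omega) h.symm
    have h2 : ∀ j, a (Sum.inr j) = 0 := by
      rw [add_comm] at ha
      refine diff_indep (dualK r) hQ n c' v' (fun i _ => hv' i) (fun i _ => hv'0 i)
        (fun i hi j hj h => hinj' i (by omega) j (by omega) h) (fun j => a (Sum.inr j))
        (∑ j : Fin n, a (Sum.inl j) • (v (j + 1) - v j)) ?_ ha
      intro i hi _
      rw [map_sum]
      refine Finset.sum_eq_zero fun j _ => ?_
      rw [map_smul, map_sub, proj_other (fun h => ?_) (hv _), proj_other (fun h => ?_) (hv _),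
        sub_self, smul_zero]
      · exact hcross j i (by omega) (by omega) h
      · exact hcross (j + 1) i (by omega) (by omega) h
    rintro (j | j)
    · exact h1 j
    · exact h2 j
  -- rank computation
  have hbr : ∀ i, b i ∈ LinearMap.range (Xt - 1) := by
    rintro (j | j)
    · exact ⟨_, rfl⟩
    · exact ⟨_, rfl⟩
  let b' : Fin n ⊕ Fin n → LinearMap.range (Xt - 1) := fun i => ⟨b i, hbr i⟩
  have hb' : LinearIndependent K b' := by
    refine LinearIndependent.of_comp (LinearMap.range (Xt - 1)).subtype ?_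
    exact hb
  have h1 := hb'.fintype_card_le_finrank
  rw [Fintype.card_sum, Fintype.card_fin] at h1
  -- restriction to `[U, X]`
  let res : (U →ₗ[ZMod 2] K) →ₗ[K] (LinearMap.range (X - 1) →ₗ[ZMod 2] K) :=
    { toFun := fun h => h ∘ₗ (LinearMap.range (X - 1)).subtype
      map_add' := fun _ _ => rfl
      map_smul' := fun _ _ => rfl }
  have hker : LinearMap.ker res = LinearMap.ker (Xt - 1) := by
    ext h
    rw [LinearMap.mem_ker, LinearMap.mem_ker]
    constructor
    · intro h0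
      ext u
      have h2 : h ((X - 1) (X' u)) = 0 := by
        have := congrArg (fun F : LinearMap.range (X - 1) →ₗ[ZMod 2] K =>
          F ⟨(X - 1) (X' u), ⟨_, rfl⟩⟩) h0
        exact this
      have h3 : (X - 1) (X' u) = u - X' u := by
        rw [LinearMap.sub_apply, Module.End.one_apply, ← Module.End.mul_apply, hXX',
          Module.End.one_apply]
      rw [h3, map_sub] at h2
      show h (X' u) - h u = 0
      rw [← neg_eq_zero, neg_sub]
      exact h2
    · intro h0
      ext ⟨_, w, rfl⟩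
      have h2 := congrArg (fun F : U →ₗ[ZMod 2] K => F (X w)) h0
      have h3 : (Xt - 1) h (X w) = h w - h (X w) := by
        show h (X' (X w)) - h (X w) = _
        rw [← Module.End.mul_apply X', hX'X, Module.End.one_apply]
      simp only [LinearMap.zero_apply] at h2
      rw [h3] at h2
      show h ((X - 1) w) = 0
      rw [LinearMap.sub_apply, Module.End.one_apply, map_sub, ← neg_eq_zero, neg_sub]
      exact h2
  have hr1 := LinearMap.finrank_range_add_finrank_ker res
  have hr2 := LinearMap.finrank_range_add_finrank_ker (Xt - 1)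
  rw [hker] at hr1
  have hr3 : finrank K (LinearMap.range res) ≤ finrank K (LinearMap.range (X - 1) →ₗ[ZMod 2] K) :=
    Submodule.finrank_le _
  have hr4 : finrank K (LinearMap.range (X - 1) →ₗ[ZMod 2] K) =
      finrank (ZMod 2) (LinearMap.range (X - 1)) := by
    rw [finrank_linearMap, finrank_self, mul_one]
  omega

/-- The main theorem on symplectic `𝔽₂`-modules. -/
theorem symp_main [IsAlgClosed K] [Finite U] [Finite Q] (hsymm : ∀ u v, ε u v = ε v u)
    (hnd : ∀ u, (∀ v, ε u v = 0) → u = 0) {X : End (ZMod 2) U} {ℓ N₀ : ℕ} (hℓ : ℓ.Prime)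
    (hodd : Odd ℓ) (hX : X ^ ℓ = 1) (hinv : ∀ u v, ε (X u) (X v) = ε u v) (hℓN : ℓ = N₀ + 1)
    (hcard : Nat.card (LinearMap.range (X - 1)) = N₀ ^ 2) (r : Q →* End (ZMod 2) U)
    (hr : ∀ a b, r a * r b = r b * r a) (hrε : ∀ y u v, ε (r y u) (r y v) = ε u v) (θ : MulAut Q)
    (hθ : ∀ y, X * r y = r (θ y) * X) (hQ : (Nat.card Q : K) ≠ 0) (hQodd : Odd (Nat.card Q))
    (hQℓ : (Nat.card Q).Coprime ℓ)
    (H : ∀ μ : Q →* Kˣ, μ ≠ 1 → μ.comp (θ : Q ≃* Q).toMonoidHom = μ →
      ∀ f ∈ eig (dualK r) μ, f ∘ₗ X = f → f = 0) : ∀ y, r y = 1 := by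
  classical
  haveI : Module.Finite (ZMod 2) U := Module.Finite.of_finite
  set X' : End (ZMod 2) U := X ^ (ℓ - 1) with hX'
  have hXX' : X * X' = 1 := by
    rw [hX', ← pow_succ']
    have : ℓ - 1 + 1 = ℓ := by
      have := hℓ.pos
      omega
    rw [this, hX]
  have hX'X : X' * X = 1 := by
    rw [hX', ← pow_succ]
    have : ℓ - 1 + 1 = ℓ := by
      have := hℓ.pos
      omega
    rw [this, hX]
  set d := finrank (ZMod 2) (LinearMap.range (X - 1)) with hd
  have hcd : N₀ ^ 2 = 2 ^ d := by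
    letI : Fintype (LinearMap.range (X - 1)) := Fintype.ofFinite _
    rw [← hcard, Nat.card_eq_fintype_card, card_eq_pow_finrank (K := ZMod 2), ZMod.card]
  obtain ⟨m, hm, hdm⟩ := pow_num hcd
  have hℓm : ℓ = 2 ^ m + 1 := by rw [hℓN, hm]
  -- nontrivial weights are fixed
  have hfix : ∀ μ : Q →* Kˣ, μ ≠ 1 → ∀ f : U →ₗ[ZMod 2] K, f ≠ 0 → f ∈ eig (dualK r) μ →
      μ.comp (θ : Q ≃* Q).toMonoidHom = μ := by
    intro μ _ f hf0 hf
    by_contra hmoved
    obtain ⟨g, hg0, hg⟩ := dual_weight ε hsymm hnd r hrε hQ hf hf0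
    have h1 := moved_count hℓ hodd hX hXX' hX'X r θ hθ hQ hQodd hf hf0 hg hg0 hmoved
    rw [← hd, hdm, hℓm, Nat.add_sub_cancel] at h1
    have h2 : m < 2 ^ m := Nat.lt_two_pow_self
    omega
  have hcomm : ∀ (a b : Q) (f : U →ₗ[ZMod 2] K), dualK r a (dualK r b f) = dualK r b (dualK r a f) := by
    intro a b f
    ext u
    show f (r b⁻¹ (r a⁻¹ u)) = f (r a⁻¹ (r b⁻¹ u))
    congr 1
    exact congrArg (fun F : End (ZMod 2) U => F u) (hr b⁻¹ a⁻¹)
  -- `θ` is trivial on the image
  have hfunc : ∀ {a : U}, (∀ f : U →ₗ[ZMod 2] K, f a = 0) → a = 0 := by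
    intro a h
    by_contra ha
    have ha' : a ∉ (⊥ : Submodule (ZMod 2) U) := by
      rwa [Submodule.mem_bot]
    obtain ⟨f, -, hf⟩ := exists_functional (K := K) ha'
    exact hf (h f)
  have hθr : ∀ y, r (θ y) = r y := by
    intro y
    have h1 := trivial_of_weights (K := K) (dualK r) ⊤ (fun _ _ _ => trivial)
      (fun a b w _ => hcomm a b w) hQ (θ y * y⁻¹) (by
        intro μ f _ hf0 hf
        by_cases hμ : μ = 1
        · rw [hμ]
          rfl
        · have h2 := hfix μ hμ f hf0 hf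
          have h3 := congrArg (fun F : Q →* Kˣ => F y) h2
          simp only [MonoidHom.comp_apply, MulEquiv.coe_toMonoidHom] at h3
          rw [map_mul, map_inv, h3, mul_inv_cancel])
    have h4 : r (θ y * y⁻¹)⁻¹ = 1 := by
      ext u
      have h5 : r (θ y * y⁻¹)⁻¹ u - u = 0 := by
        apply hfunc
        intro f
        have h6 := h1 f trivial
        have h7 := congrArg (fun F : U →ₗ[ZMod 2] K => F u) h6
        rw [map_sub, sub_eq_zero]
        exact h7
      exact sub_eq_zero.mp h5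
    have h9 : r (θ y * y⁻¹) = 1 := by
      have := congrArg (fun F => r (θ y * y⁻¹) * F) h4
      simp only [mul_one] at this
      rw [← this, ← map_mul, mul_inv_cancel, map_one]
    rw [map_mul] at h9
    calc r (θ y) = r (θ y) * (r y⁻¹ * r y) := by
          rw [← map_mul, inv_mul_cancel, map_one, mul_one]
      _ = (r (θ y) * r y⁻¹) * r y := by rw [mul_assoc]
      _ = r y := by rw [h9, one_mul]
  have hXr : ∀ y, X * r y = r y * X := by
    intro y
    rw [hθ, hθr]
  -- weights on the fixed functionals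
  let Y : Submodule K (U →ₗ[ZMod 2] K) :=
    { carrier := {f | f ∘ₗ X = f}
      add_mem' := by
        intro a b ha hb
        show (a + b) ∘ₗ X = a + b
        rw [LinearMap.add_comp, show a ∘ₗ X = a from ha, show b ∘ₗ X = b from hb]
      zero_mem' := rfl
      smul_mem' := by
        intro c a ha
        show (c • a) ∘ₗ X = c • a
        rw [LinearMap.smul_comp, show a ∘ₗ X = a from ha] }
  have hYmem : ∀ f, f ∈ Y ↔ f ∘ₗ X = f := fun _ => Iff.rfl
  have hYinv : ∀ y, ∀ f ∈ Y, dualK r y f ∈ Y := by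
    intro y f hf
    rw [hYmem] at hf ⊢
    ext u
    show f (r y⁻¹ (X u)) = f (r y⁻¹ u)
    have h1 := congrArg (fun F : End (ZMod 2) U => F u) (hXr y⁻¹)
    simp only [Module.End.mul_apply] at h1
    rw [← h1]
    have h2 := congrArg (fun F : U →ₗ[ZMod 2] K => F (r y⁻¹ u)) hf
    exact h2
  have hYtriv : ∀ y, ∀ f ∈ Y, dualK r y f = f := by
    intro y
    refine trivial_of_weights (K := K) (dualK r) Y hYinv (fun a b w _ => hcomm a b w) hQ y ?_
    intro μ f hfY hf0 hf
    by_cases hμ : μ = 1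
    · rw [hμ]
      rfl
    · exact absurd (H μ hμ (hfix μ hμ f hf0 hf) f hf ((hYmem f).mp hfY)) hf0
  have hstep4 : ∀ y u, r y u - u ∈ LinearMap.range (X - 1) := by
    intro y u
    by_contra hcon
    obtain ⟨f, hf1, hf2⟩ := exists_functional (K := K) hcon
    have hfY : f ∈ Y := by
      rw [hYmem]
      ext v
      have h1 := hf1 ((X - 1) v) ⟨v, rfl⟩
      rw [LinearMap.sub_apply, Module.End.one_apply, map_sub, sub_eq_zero] at h1
      exact h1
    have h2 := hYtriv y⁻¹ f hfY
    have h3 := congrArg (fun F : U →ₗ[ZMod 2] K => F u) h2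
    have h4 : f (r y u) = f u := by
      have h5 : dualK r y⁻¹ f u = f (r y⁻¹⁻¹ u) := rfl
      rw [inv_inv] at h5
      rw [← h5]
      exact h3
    apply hf2
    rw [map_sub, h4, sub_self]
  have hoddℓ : Odd ℓ := hodd
  have hrange : ∀ y, ∀ c ∈ LinearMap.range (X - 1), r y c = c := by
    intro y c hc
    have h1 := pow_eq_on_range hX hℓ hodd hℓm (by rw [← hd, hdm]) hsymm hnd hinv (r y)
      (hXr y).symm (hrε y) hc
    have h2 : (Nat.card Q).Coprime ℓ := hQℓ
    have h3 : (orderOf y).Coprime ℓ :=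
      Nat.Coprime.coprime_dvd_left (orderOf_dvd_natCard y) h2
    obtain ⟨k, hk⟩ := exists_pow_eq_self_of_coprime h3.symm
    have hfixc : y ^ ℓ ∈ fixSub r c := by
      show r (y ^ ℓ) c = c
      rw [map_pow]
      exact h1
    have h4 : y ∈ fixSub r c := by
      rw [← hk]
      exact (fixSub r c).pow_mem hfixc k
    exact h4
  intro y
  ext u
  obtain ⟨c, hc, b, hb, rfl⟩ := exists_decomp X hX hodd u
  rw [map_add, hrange y b hb]
  have h1 : r y c - c = 0 := by
    refine fixed_inf_range X hX hodd ?_ (hstep4 y c)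
    rw [map_sub, hc]
    have h2 := congrArg (fun F : End (ZMod 2) U => F c) (hXr y)
    simp only [Module.End.mul_apply] at h2
    rw [h2, hc]
  rw [sub_eq_zero.mp h1, Module.End.one_apply]

end Dual

end Cfsg.Agent.Lib.PqFpf
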