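import Mathlib
import Cfsg.Agent.Lib.PqFpf.Weights
import Cfsg.Agent.Lib.PqFpf.Symp
import Cfsg.Agent.Lib.PqFpf.Dual

/-!
# The commutator form of a group of class two with a central character
-/

set_option autoImplicit false
set_option linter.style.haveILetI false

namespace Cfsg.Agent.Lib.PqFpf

open Module Cfsg.Agent.Lib.S3Fpf

section Stab

variable {Γ K V : Type*} [Group Γ] [Field K] [AddCommGroup V] [Module K V]

/-- The elements acting trivially on a subspace. -/
def Te (ρ : Γ →* End K V) (E : Submodule K V) : Subgroup Γ where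
  carrier := {g | ∀ v ∈ E, ρ g v = v}
  one_mem' := by
    intro v _
    simp
  mul_mem' := by
    intro a b ha hb v hv
    rw [map_mul, Module.End.mul_apply, hb v hv, ha v hv]
  inv_mem' := by
    intro a ha v hv
    conv_lhs => rw [← ha v hv]
    exact inv_apply_apply ρ a v

theorem mem_Te {ρ : Γ →* End K V} {E : Submodule K V} {g : Γ} :
    g ∈ Te ρ E ↔ ∀ v ∈ E, ρ g v = v := Iff.rfl

/-- The elements stabilising a subspace. -/
def stabE [Finite Γ] (ρ : Γ →* End K V) (E : Submodule K V) : Subgroup Γ where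
  carrier := {g | ∀ v ∈ E, ρ g v ∈ E}
  one_mem' := by
    intro v hv
    simpa using hv
  mul_mem' := by
    intro a b ha hb v hv
    rw [map_mul, Module.End.mul_apply]
    exact ha _ (hb v hv)
  inv_mem' := by
    intro a ha v hv
    have h1 : a⁻¹ = a ^ (Nat.card Γ - 1) := by
      rw [eq_comm, ← mul_eq_one_iff_eq_inv, ← pow_succ]
      have : Nat.card Γ - 1 + 1 = Nat.card Γ := by
        have := Nat.card_pos (α := Γ)
        omega
      rw [this, pow_card_eq_one']
    rw [h1]
    have h2 : ∀ k : ℕ, ρ (a ^ k) v ∈ E := by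
      intro k
      induction k with
      | zero => simpa using hv
      | succ k ih =>
        rw [pow_succ', map_mul, Module.End.mul_apply]
        exact ha _ ih
    exact h2 _

theorem mem_stabE [Finite Γ] {ρ : Γ →* End K V} {E : Submodule K V} {g : Γ} :
    g ∈ stabE ρ E ↔ ∀ v ∈ E, ρ g v ∈ E := Iff.rfl

theorem conj_mem_Te [Finite Γ] {ρ : Γ →* End K V} {E : Submodule K V} {g h : Γ} (hg : g ∈ stabE ρ E)
    (hh : h ∈ Te ρ E) : g * h * g⁻¹ ∈ Te ρ E := by
  intro v hv
  rw [map_mul, map_mul, Module.End.mul_apply, Module.End.mul_apply,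
    hh _ ((stabE ρ E).inv_mem hg v hv)]
  exact apply_inv_apply ρ g v

theorem conj_mem_Te_iff [Finite Γ] {ρ : Γ →* End K V} {E : Submodule K V} {g h : Γ} (hg : g ∈ stabE ρ E) :
    g * h * g⁻¹ ∈ Te ρ E ↔ h ∈ Te ρ E := by
  refine ⟨fun h1 => ?_, conj_mem_Te hg⟩
  have := conj_mem_Te ((stabE ρ E).inv_mem hg) h1
  simpa [mul_assoc] using this

end Stab

section Form

variable {Γ K V : Type*} [Group Γ] [Field K] [AddCommGroup V] [Module K V]

/-- The commutator. -/
def cm (a b : Γ) : Γ := a * b * a⁻¹ * b⁻¹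

theorem cm_inv (a b : Γ) : cm b a = (cm a b)⁻¹ := by
  simp only [cm]
  group

theorem cm_conj (g a b : Γ) : cm (g * a * g⁻¹) (g * b * g⁻¹) = g * cm a b * g⁻¹ := by
  simp only [cm]
  group

/-- The hypotheses on a group of class two acting on `E`, the centre acting by scalars, `t = 2`. -/
structure FormHyp (ρ : Γ →* End K V) (N C : Subgroup Γ) (E : Submodule K V) : Prop where
  CN : C ≤ N
  central : ∀ c ∈ C, ∀ n ∈ N, c * n = n * c
  comm : ∀ a ∈ N, ∀ b ∈ N, cm a b ∈ C
  sq : ∀ a ∈ N, a * a ∈ C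
  scal : ∀ c ∈ C, ∃ s : K, ∀ v ∈ E, ρ c v = s • v
  Ene : E ≠ ⊥
  Ninv : ∀ n ∈ N, ∀ v ∈ E, ρ n v ∈ E

variable {ρ : Γ →* End K V} {N C : Subgroup Γ} {E : Submodule K V} (h : FormHyp ρ N C E)

namespace FormHyp

include h

theorem cm_mul_left {a a' b : Γ} (ha : a ∈ N) (ha' : a' ∈ N) (hb : b ∈ N) :
    cm (a * a') b = cm a' b * cm a b := by
  have h1 := h.central _ (h.comm a' ha' b hb) a ha
  calc cm (a * a') b = a * cm a' b * (b * a⁻¹ * b⁻¹) := by
        simp only [cm]
        group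
    _ = cm a' b * a * (b * a⁻¹ * b⁻¹) := by rw [h1]
    _ = cm a' b * cm a b := by
        simp only [cm]
        group

theorem cm_mul_right {a b b' : Γ} (ha : a ∈ N) (hb : b ∈ N) (hb' : b' ∈ N) :
    cm a (b * b') = cm a b * cm a b' := by
  have h1 := h.central _ (h.comm a ha b' hb') b hb
  calc cm a (b * b') = cm a b * (b * cm a b' * b⁻¹) := by
        simp only [cm]
        group
    _ = cm a b * (cm a b' * b * b⁻¹) := by rw [h1]
    _ = cm a b * cm a b' := by
        rw [mul_inv_cancel_right]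

theorem cm_sq {a b : Γ} (ha : a ∈ N) (hb : b ∈ N) : cm a b * cm a b = 1 := by
  rw [← h.cm_mul_left ha ha hb]
  have h1 := h.central _ (h.sq a ha) b hb
  simp only [cm]
  rw [h1]
  group

/-- The set of elements of square one in `C` modulo the elements acting trivially on `E`. -/
theorem mul_mem_Te_iff {c c' : Γ} (hc : c ∈ C) (hc' : c' ∈ C) (h1 : c * c = 1) (h2 : c' * c' = 1) :
    c * c' ∈ Te ρ E ↔ (c ∈ Te ρ E ↔ c' ∈ Te ρ E) := by
  obtain ⟨v₀, hv₀, hv₀0⟩ := Submodule.exists_mem_ne_zero_of_ne_bot h.Ene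
  obtain ⟨s, hs⟩ := h.scal c hc
  obtain ⟨s', hs'⟩ := h.scal c' hc'
  have hsq : ∀ {d : Γ} {r : K}, d * d = 1 → (∀ v ∈ E, ρ d v = r • v) → r = 1 ∨ r = -1 := by
    intro d r hd hr
    have h3 : ρ (d * d) v₀ = v₀ := by rw [hd, map_one]; rfl
    rw [map_mul, Module.End.mul_apply, hr _ hv₀, map_smul, hr _ hv₀, smul_smul] at h3
    have h4 : r * r = 1 := smul_left_injective K hv₀0 (by simpa using h3)
    exact mul_self_eq_one_iff.mp h4
  have hte : ∀ {d : Γ} {r : K}, (∀ v ∈ E, ρ d v = r • v) → (d ∈ Te ρ E ↔ r = 1) := by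
    intro d r hr
    constructor
    · intro hd
      have h3 := hd v₀ hv₀
      rw [hr _ hv₀] at h3
      exact smul_left_injective K hv₀0 (by simpa using h3)
    · rintro rfl v hv
      rw [hr v hv, one_smul]
  have hprod : ∀ v ∈ E, ρ (c * c') v = (s * s') • v := by
    intro v hv
    rw [map_mul, Module.End.mul_apply, hs' v hv, map_smul, hs v hv, smul_smul, mul_comm]
  rw [hte hprod, hte hs, hte hs']
  rcases hsq h1 hs with rfl | rfl <;> rcases hsq h2 hs' with rfl | rfl <;> simp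

end FormHyp

open Classical in
/-- The pairing. -/
noncomputable def pair (ρ : Γ →* End K V) (E : Submodule K V) (a b : Γ) : ZMod 2 :=
  if cm a b ∈ Te ρ E then 0 else 1

theorem pair_eq_zero_iff {a b : Γ} : pair ρ E a b = 0 ↔ cm a b ∈ Te ρ E := by
  classical
  unfold pair
  split_ifs with h1
  · simp [h1]
  · simp [h1]

theorem pair_symm (a b : Γ) : pair ρ E b a = pair ρ E a b := by
  classical
  unfold pair
  rw [cm_inv a b]
  simp only [inv_mem_iff]

namespace FormHyp

include h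

theorem pair_add_left {a a' b : Γ} (ha : a ∈ N) (ha' : a' ∈ N) (hb : b ∈ N) :
    pair ρ E (a * a') b = pair ρ E a b + pair ρ E a' b := by
  classical
  have h1 := h.mul_mem_Te_iff (h.comm a' ha' b hb) (h.comm a ha b hb) (h.cm_sq ha' hb) (h.cm_sq ha hb)
  unfold pair
  rw [h.cm_mul_left ha ha' hb]
  by_cases h2 : cm a b ∈ Te ρ E <;> by_cases h3 : cm a' b ∈ Te ρ E <;> simp [h1, h2, h3] <;> decide

theorem pair_add_right {a b b' : Γ} (ha : a ∈ N) (hb : b ∈ N) (hb' : b' ∈ N) :
    pair ρ E a (b * b') = pair ρ E a b + pair ρ E a b' := by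
  classical
  have h1 := h.mul_mem_Te_iff (h.comm a ha b hb) (h.comm a ha b' hb') (h.cm_sq ha hb) (h.cm_sq ha hb')
  unfold pair
  rw [h.cm_mul_right ha hb hb']
  by_cases h2 : cm a b ∈ Te ρ E <;> by_cases h3 : cm a b' ∈ Te ρ E <;> simp [h1, h2, h3] <;> decide

/-- The pairing as a map to the dual of `N`. -/
noncomputable def Psi (n : N) : Additive N →+ ZMod 2 :=
  AddMonoidHom.mk' (fun w => pair ρ E n (Additive.toMul w : N)) (by
    intro a b
    have := h.pair_add_right n.2 (Additive.toMul a : N).2 (Additive.toMul b : N).2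
    exact this)

theorem Psi_apply (n w : N) : h.Psi n (Additive.ofMul w) = pair ρ E n w := rfl

theorem Psi_mul (n n' : N) : h.Psi (n * n') = h.Psi n + h.Psi n' := by
  refine AddMonoidHom.ext fun w => ?_
  obtain ⟨w, rfl⟩ := Additive.ofMul.surjective w
  exact h.pair_add_left n.2 n'.2 w.2

theorem pair_one_left (b : Γ) : pair ρ E 1 b = 0 := by
  rw [pair_eq_zero_iff]
  have : cm (1 : Γ) b = 1 := by
    simp [cm]
  rw [this]
  exact one_mem _

/-- The module attached to the form. -/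
def formU : Submodule (ZMod 2) (Additive N →+ ZMod 2) where
  carrier := {f | ∃ n, h.Psi n = f}
  add_mem' := by
    rintro _ _ ⟨n, rfl⟩ ⟨n', rfl⟩
    exact ⟨n * n', h.Psi_mul n n'⟩
  zero_mem' := by
    refine ⟨1, ?_⟩
    refine AddMonoidHom.ext fun w => ?_
    obtain ⟨w, rfl⟩ := Additive.ofMul.surjective w
    exact h.pair_one_left (w : Γ)
  smul_mem' := by
    rintro c _ ⟨n, rfl⟩
    have hc : c = 0 ∨ c = 1 := by
      revert c
      decide
    rcases hc with rfl | rfl
    · refine ⟨1, ?_⟩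
      refine AddMonoidHom.ext fun w => ?_
      obtain ⟨w, rfl⟩ := Additive.ofMul.surjective w
      rw [zero_smul]
      exact h.pair_one_left (w : Γ)
    · exact ⟨n, by rw [one_smul]⟩

/-- The quotient map. -/
noncomputable def phi (n : N) : h.formU := ⟨h.Psi n, n, rfl⟩

theorem phi_surjective : Function.Surjective h.phi := by
  rintro ⟨_, n, rfl⟩
  exact ⟨n, rfl⟩

theorem phi_mul (n n' : N) : h.phi (n * n') = h.phi n + h.phi n' :=
  Subtype.ext (h.Psi_mul n n')

theorem phi_coe_apply (n w : N) : ((h.phi n : h.formU) : Additive N →+ ZMod 2) (Additive.ofMul w) =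
    pair ρ E n w := rfl

/-- The radical. -/
def formR : Subgroup Γ where
  carrier := {m | m ∈ N ∧ ∀ w ∈ N, cm m w ∈ Te ρ E}
  one_mem' := by
    refine ⟨N.one_mem, fun w _ => ?_⟩
    have : cm (1 : Γ) w = 1 := by
      simp [cm]
    rw [this]
    exact one_mem _
  mul_mem' := by
    rintro a b ⟨ha, ha'⟩ ⟨hb, hb'⟩
    refine ⟨N.mul_mem ha hb, fun w hw => ?_⟩
    rw [h.cm_mul_left ha hb hw]
    exact mul_mem (hb' w hw) (ha' w hw)
  inv_mem' := by
    rintro a ⟨ha, ha'⟩
    refine ⟨N.inv_mem ha, fun w hw => ?_⟩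
    have h1 := h.cm_mul_left ha (N.inv_mem ha) hw
    have h2 : cm (a * a⁻¹) w = 1 := by
      simp [cm]
    rw [h2] at h1
    have h3 : cm a⁻¹ w = (cm a w)⁻¹ := eq_inv_of_mul_eq_one_left h1.symm
    rw [h3]
    exact inv_mem (ha' w hw)

theorem mem_formR {m : Γ} : m ∈ h.formR ↔ m ∈ N ∧ ∀ w ∈ N, cm m w ∈ Te ρ E := Iff.rfl

theorem formR_le : h.formR ≤ N := fun _ hm => hm.1

theorem C_le_formR : C ≤ h.formR := by
  intro c hc
  refine ⟨h.CN hc, fun w hw => ?_⟩
  have : cm c w = 1 := by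
    simp only [cm]
    rw [h.central c hc w hw]
    group
  rw [this]
  exact one_mem _

theorem phi_eq_zero_iff (n : N) : h.phi n = 0 ↔ (n : Γ) ∈ h.formR := by
  constructor
  · intro h0
    refine ⟨n.2, fun w hw => ?_⟩
    have h1 := congrArg (fun u : h.formU => (u : Additive N →+ ZMod 2) (Additive.ofMul (⟨w, hw⟩ : N))) h0
    have h2 : pair ρ E n w = 0 := h1
    exact pair_eq_zero_iff.mp h2
  · intro hn
    apply Subtype.ext
    refine AddMonoidHom.ext fun w => ?_
    obtain ⟨w, rfl⟩ := Additive.ofMul.surjective w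
    exact pair_eq_zero_iff.mpr (hn.2 w w.2)

theorem phi_eq_iff (n n' : N) : h.phi n = h.phi n' ↔ (n : Γ)⁻¹ * n' ∈ h.formR := by
  have h2 := h.phi_mul n (n⁻¹ * n')
  rw [mul_inv_cancel_left] at h2
  constructor
  · intro e
    rw [h2] at e
    exact (h.phi_eq_zero_iff (n⁻¹ * n')).mp (left_eq_add.mp e)
  · intro hmem
    have h3 : h.phi (n⁻¹ * n') = 0 := (h.phi_eq_zero_iff (n⁻¹ * n')).mpr hmem
    rw [h2, h3, add_zero]

/-- A section of `phi`. -/
noncomputable def sec (u : h.formU) : N := (h.phi_surjective u).choose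

theorem phi_sec (u : h.formU) : h.phi (h.sec u) = u := (h.phi_surjective u).choose_spec

theorem eval_sec (u : h.formU) (w : N) :
    (u : Additive N →+ ZMod 2) (Additive.ofMul w) = pair ρ E (h.sec u) w := by
  conv_lhs => rw [← h.phi_sec u]
  rfl

theorem eval_swap (u v : h.formU) :
    (u : Additive N →+ ZMod 2) (Additive.ofMul (h.sec v)) =
      (v : Additive N →+ ZMod 2) (Additive.ofMul (h.sec u)) := by
  rw [h.eval_sec, h.eval_sec, pair_symm]

/-- The bilinear form. -/
noncomputable def formε : LinearMap.BilinForm (ZMod 2) h.formU :=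
  LinearMap.mk₂ (ZMod 2) (fun u v => (u : Additive N →+ ZMod 2) (Additive.ofMul (h.sec v)))
    (fun _ _ _ => rfl) (fun _ _ _ => rfl)
    (fun u v v' => by
      simp only [h.eval_swap u]
      rfl)
    (fun c u v => by
      simp only [h.eval_swap u]
      rfl)

theorem formε_apply (u v : h.formU) :
    h.formε u v = (u : Additive N →+ ZMod 2) (Additive.ofMul (h.sec v)) := rfl

theorem formε_phi (n w : N) : h.formε (h.phi n) (h.phi w) = pair ρ E n w := by
  rw [formε_apply, phi_coe_apply, pair_symm, ← h.eval_sec, phi_coe_apply, pair_symm]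

theorem formε_symm (u v : h.formU) : h.formε u v = h.formε v u := h.eval_swap u v

theorem formε_nd (u : h.formU) (hu : ∀ v, h.formε u v = 0) : u = 0 := by
  apply Subtype.ext
  refine AddMonoidHom.ext fun w => ?_
  obtain ⟨w, rfl⟩ := Additive.ofMul.surjective w
  have h1 := hu (h.phi w)
  obtain ⟨n, rfl⟩ := h.phi_surjective u
  rw [h.formε_phi] at h1
  exact h1

end FormHyp

section Op

variable [Finite Γ] [hN : N.Normal]

namespace FormHyp

include h

theorem pair_conj {g : Γ} (hg : g ∈ stabE ρ E) (a b : Γ) :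
    pair ρ E (g * a * g⁻¹) (g * b * g⁻¹) = pair ρ E a b := by
  classical
  unfold pair
  rw [cm_conj]
  simp only [conj_mem_Te_iff hg]

theorem dualRep_Psi {g : Γ} (hg : g ∈ stabE ρ E) (n : N) :
    dualRep (K := ZMod 2) N g (h.Psi n) = h.Psi (MulAut.conjNormal g n) := by
  refine AddMonoidHom.ext fun w => ?_
  obtain ⟨w, rfl⟩ := Additive.ofMul.surjective w
  rw [dualRep_apply, h.Psi_apply, h.Psi_apply]
  have h1 := h.pair_conj hg (n : Γ) ((MulAut.conjNormal g⁻¹ w : N) : Γ)
  rw [← h1]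
  congr 1
  simp [MulAut.conjNormal_apply, mul_assoc]

/-- The action on the module of the form. -/
noncomputable def uRep (g : Γ) (hg : g ∈ stabE ρ E) : End (ZMod 2) h.formU :=
  (dualRep (K := ZMod 2) N g).restrict (by
    rintro _ ⟨n, rfl⟩
    exact ⟨_, (h.dualRep_Psi hg n).symm⟩)

theorem uRep_phi (g : Γ) (hg : g ∈ stabE ρ E) (n : N) :
    h.uRep g hg (h.phi n) = h.phi (MulAut.conjNormal g n) :=
  Subtype.ext (h.dualRep_Psi hg n)

theorem uRep_mul (g g' : Γ) (hg : g ∈ stabE ρ E) (hg' : g' ∈ stabE ρ E) :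
    h.uRep (g * g') ((stabE ρ E).mul_mem hg hg') = h.uRep g hg * h.uRep g' hg' := by
  ext u
  show dualRep (K := ZMod 2) N (g * g') _ _ = _
  rw [map_mul]
  rfl

theorem uRep_one : h.uRep 1 (stabE ρ E).one_mem = 1 := by
  ext u
  show dualRep (K := ZMod 2) N 1 _ _ = _
  rw [map_one]
  rfl

theorem uRep_pow (g : Γ) (hg : g ∈ stabE ρ E) (n : ℕ) :
    h.uRep (g ^ n) ((stabE ρ E).pow_mem hg n) = h.uRep g hg ^ n := by
  induction n with
  | zero =>
    simp only [pow_zero]
    exact h.uRep_one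
  | succ n ih =>
    simp only [pow_succ]
    rw [h.uRep_mul _ _ ((stabE ρ E).pow_mem hg n) hg, ih]

theorem formε_uRep (g : Γ) (hg : g ∈ stabE ρ E) (u v : h.formU) :
    h.formε (h.uRep g hg u) (h.uRep g hg v) = h.formε u v := by
  obtain ⟨n, rfl⟩ := h.phi_surjective u
  obtain ⟨w, rfl⟩ := h.phi_surjective v
  rw [h.uRep_phi, h.uRep_phi, h.formε_phi, h.formε_phi]
  exact h.pair_conj hg _ _

end FormHyp

end Op

end Form

end Cfsg.Agent.Lib.PqFpf
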