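import Mathlib
import Cfsg.Agent.Lib.OddOrder.HHGroup

/-!
# The Hall–Higman numerics for a representation with a projectively abelian image
-/

set_option autoImplicit false
set_option linter.style.haveILetI false

namespace Cfsg.Agent.Lib.PqFpf

open Module Cfsg.Agent.Lib.OddOrder.HHCore

theorem hh_op {k W D : Type*} [Field k] [IsAlgClosed k] [AddCommGroup W] [Module k W]
    [FiniteDimensional k W] [Nontrivial W] [Group D] [Finite D] (ϱ : D →* End k W) {r : ℕ}
    (hr : r.Prime) (hrk : (r : k) ≠ 0) (hDk : (Nat.card D : k) ≠ 0) (ψ : MulAut D) (T : End k W)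
    (hT : T ^ r = 1) (hTϱ : ∀ d, T * ϱ d = ϱ (ψ d) * T) (R₀ : Subgroup D)
    (ha : ∀ d ∈ R₀, ∃ s : k, ϱ d = s • 1) (hb : ∀ u y : D, u * y * u⁻¹ * y⁻¹ ∈ R₀)
    (hc : ∀ y, y ∉ R₀ → ∃ u, ϱ (u * y * u⁻¹ * y⁻¹) ≠ 1) (hd : ∀ y, ψ y * y⁻¹ ∈ R₀ → y ∈ R₀)
    (he : R₀ ≠ ⊤) (hfix : ∀ v, T v = v → v = 0) : ∃ N, R₀.index = N ^ 2 ∧ r = N + 1 := by
  classical
  let u : D →* (End k W)ˣ := ϱ.toHomUnits
  let Y : Subgroup (End k W)ˣ := u.range
  let π : D →* Y := u.rangeRestrict
  have hπ : Function.Surjective π := u.rangeRestrict_surjective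
  let ρY : Y →* End k W := (Units.coeHom (End k W)).comp Y.subtype
  have hρπ : ∀ d, ρY (π d) = ϱ d := fun _ => rfl
  haveI : Finite Y := Finite.of_surjective π hπ
  letI : Fintype Y := Fintype.ofFinite _
  have hinjY : Function.Injective ρY := by
    intro a b hab
    apply Subtype.ext
    exact Units.ext hab
  have hker : ∀ d, ϱ d = 1 → d ∈ R₀ := by
    intro d hd1
    by_contra hd2
    obtain ⟨u₀, hu₀⟩ := hc d hd2
    apply hu₀
    have hk : d ∈ ϱ.ker := hd1
    have h1 := (ϱ.ker).mul_mem ((MonoidHom.normal_ker ϱ).conj_mem d hk u₀) ((ϱ.ker).inv_mem hk)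
    exact h1
  set C : Subgroup Y := R₀.map π with hC
  have hmemC : ∀ d, π d ∈ C → d ∈ R₀ := by
    rintro d ⟨d₀, hd₀, hdd⟩
    have h1 : π (d₀⁻¹ * d) = 1 := by
      rw [map_mul, map_inv, hdd, inv_mul_cancel]
    have h2 : ϱ (d₀⁻¹ * d) = 1 := by
      rw [← hρπ, h1, map_one]
    have h3 := R₀.mul_mem hd₀ (hker _ h2)
    simpa using h3
  have hH : IsHeis ρY C := by
    refine ⟨?_, ?_, ?_⟩
    · rintro _ ⟨d, hd, rfl⟩
      obtain ⟨s, hs⟩ := ha d hd
      exact ⟨s, hs⟩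
    · intro a b
      obtain ⟨a, rfl⟩ := hπ a
      obtain ⟨b, rfl⟩ := hπ b
      exact ⟨a * b * a⁻¹ * b⁻¹, hb a b, by simp⟩
    · intro y hy
      obtain ⟨y, rfl⟩ := hπ y
      have hy' : y ∉ R₀ := fun h => hy ⟨y, h, rfl⟩
      obtain ⟨u₀, hu₀⟩ := hc y hy'
      refine ⟨π u₀, ?_⟩
      intro h
      apply hu₀
      rw [← hρπ]
      simpa using h
  -- the conjugation
  have hTinv : T ^ (r - 1) * T = 1 := by
    rw [← pow_succ]
    have : r - 1 + 1 = r := by
      have := hr.pos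
      omega
    rw [this, hT]
  have hTinv' : T * T ^ (r - 1) = 1 := by
    rw [← pow_succ']
    have : r - 1 + 1 = r := by
      have := hr.pos
      omega
    rw [this, hT]
  let TU : (End k W)ˣ := ⟨T, T ^ (r - 1), hTinv', hTinv⟩
  have hconj : ∀ d, TU * u d * TU⁻¹ = u (ψ d) := by
    intro d
    apply Units.ext
    show T * ϱ d * T ^ (r - 1) = ϱ (ψ d)
    rw [hTϱ, mul_assoc, hTinv', mul_one]
  let f : Y →* Y :=
    { toFun := fun y => ⟨TU * y * TU⁻¹, by
        obtain ⟨d, hd⟩ := y.2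
        rw [← hd, hconj]
        exact ⟨_, rfl⟩⟩
      map_one' := by
        apply Subtype.ext
        simp
      map_mul' := by
        intro a b
        apply Subtype.ext
        simp [mul_assoc] }
  have hfcoe : ∀ y : Y, ((f y : Y) : (End k W)ˣ) = TU * y * TU⁻¹ := fun _ => rfl
  have hfinj : Function.Injective f := by
    intro a b hab
    apply Subtype.ext
    have h1 := congrArg Subtype.val hab
    rw [hfcoe, hfcoe] at h1
    simpa using h1
  let σ : MulAut Y := MulEquiv.ofBijective f ⟨hfinj, Finite.surjective_of_injective hfinj⟩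
  have hσcoe : ∀ y : Y, ((σ y : Y) : (End k W)ˣ) = TU * y * TU⁻¹ := fun _ => rfl
  have hσπ : ∀ d, σ (π d) = π (ψ d) := by
    intro d
    apply Subtype.ext
    rw [hσcoe]
    exact hconj d
  have hσpow : ∀ (n : ℕ) (y : Y), (((σ ^ n) y : Y) : (End k W)ˣ) = TU ^ n * y * (TU ^ n)⁻¹ := by
    intro n y
    induction n with
    | zero => simp
    | succ n ih =>
      rw [pow_succ', MulAut.mul_apply, hσcoe, ih, pow_succ']
      group
  have hTUr : TU ^ r = 1 := by
    apply Units.ext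
    show T ^ r = 1
    exact hT
  have hσr : σ ^ r = 1 := by
    ext y
    rw [hσpow, hTUr]
    simp
  have hσC : ∀ c ∈ C, σ c = c := by
    rintro _ ⟨d, hd, rfl⟩
    apply Subtype.ext
    rw [hσcoe]
    obtain ⟨s, hs⟩ := ha d hd
    apply Units.ext
    show T * ϱ d * T ^ (r - 1) = ϱ d
    rw [hs, mul_smul_comm, mul_one, smul_mul_assoc, hTinv']
  have hfpf : ∀ y, σ y * y⁻¹ ∈ C → y ∈ C := by
    intro y hy
    obtain ⟨d, rfl⟩ := hπ y
    rw [hσπ, ← map_inv, ← map_mul] at hy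
    exact ⟨d, hd d (hmemC _ hy), rfl⟩
  have hCtop : C ≠ ⊤ := by
    intro h
    apply he
    rw [eq_top_iff]
    intro d _
    apply hmemC
    rw [h]
    trivial
  have hYk : (Fintype.card Y : k) ≠ 0 := by
    rw [← Nat.card_eq_fintype_card]
    intro h0
    apply hDk
    obtain ⟨c, hc⟩ := Subgroup.card_dvd_of_surjective π hπ
    rw [hc, Nat.cast_mul, h0, zero_mul]
  rcases main hr hrk hH hYk σ hσr hσC hfpf hCtop T hT
    (fun y => by
      obtain ⟨d, rfl⟩ := hπ y
      rw [hρπ, hσπ, hρπ]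
      exact hTϱ d) with ⟨v, hv, hTv⟩ | ⟨N, hN, hrN⟩
  · exact absurd (hfix v hTv) hv
  · refine ⟨N, ?_, hrN⟩
    rw [← hN]
    have hidx : C.index = R₀.index := by
      have hkle : π.ker ≤ R₀ := by
        intro d hd1
        apply hker
        rw [← hρπ, hd1, map_one]
      rw [hC, Subgroup.index_map, sup_of_le_left hkle, MonoidHom.range_eq_top.mpr hπ, Subgroup.index_top,
        mul_one]
    exact hidx.symm

end Cfsg.Agent.Lib.PqFpf
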