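import Mathlib
import Cfsg.Agent.Lib.PqFpf.Form
import Cfsg.Agent.Lib.PqFpf.HHOp

/-!
# The numerics for the commutator form
-/

set_option autoImplicit false
set_option linter.style.haveILetI false

namespace Cfsg.Agent.Lib.PqFpf

open Module Cfsg.Agent.Lib.S3Fpf Cfsg.Agent.Lib.OddOrder.HHGroup

variable {Γ K V : Type*} [Group Γ] [Field K] [AddCommGroup V] [Module K V] [Finite Γ]
variable {ρ : Γ →* End K V} {N C : Subgroup Γ} {E : Submodule K V} [hN : N.Normal]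
variable (h : FormHyp ρ N C E)

theorem index_eq_card_of_add {D W : Type*} [Group D] [AddCommGroup W] {R₀ : Subgroup D} (g : D → W)
    (hg : ∀ a b, g (a * b) = g a + g b) (hs : Function.Surjective g)
    (hk : ∀ d, g d = 0 ↔ d ∈ R₀) : R₀.index = Nat.card W := by
  let f : D →* Multiplicative W := MonoidHom.mk' (fun d => Multiplicative.ofAdd (g d)) (by
    intro a b
    rw [hg]
    rfl)
  have hfsurj : Function.Surjective f := by
    intro b
    obtain ⟨d, hd⟩ := hs (Multiplicative.toAdd b)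
    exact ⟨d, by rw [← ofAdd_toAdd b, ← hd]; rfl⟩
  have hfker : f.ker = R₀ := by
    ext d
    rw [MonoidHom.mem_ker, ← hk]
    constructor
    · intro h1
      exact Multiplicative.ofAdd.injective h1
    · intro h1
      show Multiplicative.ofAdd (g d) = 1
      rw [h1]
      rfl
  rw [← hfker, Subgroup.index_ker, MonoidHom.range_eq_top.mpr hfsurj, Subgroup.card_top]
  rfl

namespace FormHyp

include h

theorem uRep_eq_one (g : Γ) (hg : g ∈ stabE ρ E) (h1 : g = 1) : h.uRep g hg = 1 := by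
  subst h1
  exact h.uRep_one

theorem finite_formU : Finite h.formU := Finite.of_surjective h.phi h.phi_surjective

theorem conj_mem_formR {g r : Γ} (hg : g ∈ stabE ρ E) (hr : r ∈ h.formR) : g * r * g⁻¹ ∈ h.formR := by
  refine ⟨hN.conj_mem r hr.1 g, fun w hw => ?_⟩
  have h1 := hr.2 (g⁻¹ * w * g) (by simpa using hN.conj_mem w hw g⁻¹)
  have h2 := conj_mem_Te hg h1
  rw [← cm_conj] at h2
  simpa [mul_assoc] using h2

theorem numerics [IsAlgClosed K] [FiniteDimensional K V] {x₀ : Γ} (hx₀ : x₀ ∈ stabE ρ E) {ℓ : ℕ}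
    (hℓ : ℓ.Prime) (hodd : Odd ℓ) (hx : x₀ ^ ℓ = 1) (hfix : ∀ v ∈ E, ρ x₀ v = v → v = 0)
    (hℓK : (ℓ : K) ≠ 0) (hNK : (Nat.card N : K) ≠ 0) (hne : h.uRep x₀ hx₀ ≠ 1) :
    ∃ N₀, Nat.card (LinearMap.range (h.uRep x₀ hx₀ - 1)) = N₀ ^ 2 ∧ ℓ = N₀ + 1 := by
  classical
  set X := h.uRep x₀ hx₀ with hX
  haveI : Fact ℓ.Prime := ⟨hℓ⟩
  haveI : Finite h.formU := h.finite_formU
  have hXℓ : X ^ ℓ = 1 := by
    rw [hX, ← h.uRep_pow]
    exact h.uRep_eq_one _ _ hx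
  set R := h.formR with hR
  let τR : R →* End K V := ρ.comp R.subtype
  have hRN : R ≤ N := h.formR_le
  have hcommR : ∀ a b : R, ∀ w ∈ E, τR a (τR b w) = τR b (τR a w) := by
    intro a b w hw
    show ρ a (ρ b w) = ρ b (ρ a w)
    have h1 : (a : Γ) * b = cm (a : Γ) b * (b * a) := by
      simp only [cm]
      group
    have h2 := a.2.2 b (hRN b.2)
    have h3 : ρ (b * a : Γ) w ∈ E := by
      rw [map_mul, Module.End.mul_apply]
      exact h.Ninv _ (hRN b.2) _ (h.Ninv _ (hRN a.2) _ hw)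
    calc ρ a (ρ b w) = ρ ((a : Γ) * b) w := by rw [map_mul]; rfl
      _ = ρ (cm (a : Γ) b) (ρ (b * a : Γ) w) := by rw [h1, map_mul]; rfl
      _ = ρ (b * a : Γ) w := h2 _ h3
      _ = ρ b (ρ a w) := by rw [map_mul]; rfl
  have hRinv : ∀ y : R, ∀ w ∈ E, τR y w ∈ E := fun y w hw => h.Ninv y (hRN y.2) w hw
  obtain ⟨η, v₀, hv₀E, hv₀0, hv₀η⟩ := exists_eig_in τR E h.Ene hRinv hcommR
  -- `x₀` fixes `η`
  have hx₀1 : x₀ ≠ 1 := by
    rintro rfl
    exact hne (h.uRep_one)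
  have hord : orderOf x₀ = ℓ := orderOf_eq_prime hx hx₀1
  let A' := Subgroup.zpowers x₀
  let α' : A' →* Γ := A'.subtype
  have hA'card : Nat.card A' = ℓ := by
    rw [Nat.card_zpowers, hord]
  have hzle : A' ≤ stabE ρ E := (Subgroup.zpowers_le).mpr hx₀
  have hnormR : Norm α' R := fun a y hy => h.conj_mem_formR (hzle a.2) hy
  let σ : A' →* End K V := ρ.comp α'
  let θ := conjOn α' R hnormR
  have hc : ∀ a y, σ a * τR y = τR (θ a y) * σ a := by
    intro a y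
    show ρ (a : Γ) * ρ (y : Γ) = ρ ((a : Γ) * y * (a : Γ)⁻¹) * ρ (a : Γ)
    rw [← map_mul, ← map_mul]
    congr 1
    group
  have hW₀ : ∀ a : A', ∀ v ∈ E, σ a v ∈ E := fun a v hv => hzle a.2 v hv
  have hfixA : ∀ v ∈ E, (∀ a : A', σ a v = v) → v = 0 := by
    intro v hv h1
    exact hfix v hv (h1 ⟨x₀, Subgroup.mem_zpowers x₀⟩)
  have hA : (Nat.card A' : K) ≠ 0 := by rwa [hA'card]
  have hdvdK : ∀ {a b : ℕ}, a ∣ b → (b : K) ≠ 0 → (a : K) ≠ 0 := by
    rintro a b ⟨c, rfl⟩ hb h0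
    apply hb
    rw [Nat.cast_mul, h0, zero_mul]
  have hRK : (Nat.card R : K) ≠ 0 := hdvdK (Subgroup.card_dvd_of_le hRN) hNK
  have hS := stab_ne_bot τR σ θ hc E hW₀ hfixA hA hRK hv₀η hv₀E hv₀0
  have hStop : stabOf θ η = ⊤ := by
    haveI : Fact (Nat.card A').Prime := ⟨by rw [hA'card]; exact hℓ⟩
    exact (Subgroup.eq_bot_or_eq_top_of_prime_card (stabOf θ η)).resolve_left hS
  have hηfix : ∀ (a : A') (y : R), η (θ a y) = η y := by
    intro a y
    have ha : a ∈ stabOf θ η := by rw [hStop]; trivial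
    exact ha y
  -- the eigenspace
  set E₁ : Submodule K V := E ⊓ eig τR η with hE₁
  have hE₁ne : E₁ ≠ ⊥ := by
    intro h0
    have h1 : v₀ ∈ E₁ := ⟨hv₀E, hv₀η⟩
    rw [h0, Submodule.mem_bot] at h1
    exact hv₀0 h1
  have hE₁N : ∀ n ∈ N, ∀ v ∈ E₁, ρ n v ∈ E₁ := by
    intro n hn v hv
    refine ⟨h.Ninv n hn v hv.1, fun y => ?_⟩
    have h1 : (y : Γ) * n = n * (y * cm (y : Γ)⁻¹ n⁻¹) := by
      simp only [cm]
      group
    have h2 : cm (y : Γ)⁻¹ n⁻¹ ∈ Te ρ E := (R.inv_mem y.2).2 _ (N.inv_mem hn)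
    show ρ (y : Γ) (ρ n v) = _
    rw [← Module.End.mul_apply, ← map_mul, h1, map_mul, map_mul, Module.End.mul_apply,
      Module.End.mul_apply, h2 v hv.1]
    have h3 := hv.2 y
    have h4 : ρ (y : Γ) v = ((η y : Kˣ) : K) • v := h3
    rw [h4, map_smul]
  have hE₁x : ∀ v ∈ E₁, ρ x₀ v ∈ E₁ := by
    intro v hv
    refine ⟨hx₀ v hv.1, fun y => ?_⟩
    let a : A' := ⟨x₀, Subgroup.mem_zpowers x₀⟩
    have h1 : (y : Γ) * x₀ = x₀ * ((θ a⁻¹ y : R) : Γ) := by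
      rw [conjOn_coe]
      simp only [α', Subgroup.coe_subtype, map_inv, InvMemClass.coe_inv, a, inv_inv]
      group
    show ρ (y : Γ) (ρ x₀ v) = _
    rw [← Module.End.mul_apply, ← map_mul, h1, map_mul, Module.End.mul_apply]
    have h3 := hv.2 (θ a⁻¹ y)
    have h4 : ρ ((θ a⁻¹ y : R) : Γ) v = ((η (θ a⁻¹ y) : Kˣ) : K) • v := h3
    rw [h4, hηfix, map_smul]
  -- the subgroup over `[U, X]`
  let D : Subgroup Γ :=
    { carrier := {n | ∃ hn : n ∈ N, h.phi ⟨n, hn⟩ ∈ LinearMap.range (X - 1)}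
      mul_mem' := by
        rintro a b ⟨ha, ha'⟩ ⟨hb, hb'⟩
        refine ⟨N.mul_mem ha hb, ?_⟩
        have h1 : h.phi ⟨a * b, N.mul_mem ha hb⟩ = h.phi ⟨a, ha⟩ + h.phi ⟨b, hb⟩ :=
          h.phi_mul ⟨a, ha⟩ ⟨b, hb⟩
        rw [h1]
        exact Submodule.add_mem _ ha' hb'
      one_mem' := ⟨N.one_mem, by
        have h1 : h.phi ⟨1, N.one_mem⟩ = 0 := (h.phi_eq_zero_iff _).mpr R.one_mem
        rw [h1]
        exact Submodule.zero_mem _⟩
      inv_mem' := by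
        rintro a ⟨ha, ha'⟩
        refine ⟨N.inv_mem ha, ?_⟩
        have h1 : h.phi ⟨a⁻¹, N.inv_mem ha⟩ = h.phi ⟨a, ha⟩ := by
          rw [h.phi_eq_iff]
          have h2 := h.C_le_formR (h.sq a ha)
          simpa using h2
        rw [h1]
        exact ha' }
  have hDN : D ≤ N := fun n hn => hn.1
  have hDmem : ∀ n : N, (n : Γ) ∈ D ↔ h.phi n ∈ LinearMap.range (X - 1) := by
    intro n
    constructor
    · rintro ⟨_, h2⟩
      exact h2
    · intro h2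
      exact ⟨n.2, h2⟩
  have hRD : R ≤ D := by
    intro r hr
    refine ⟨hRN hr, ?_⟩
    have h1 : h.phi ⟨r, hRN hr⟩ = 0 := (h.phi_eq_zero_iff _).mpr hr
    rw [h1]
    exact Submodule.zero_mem _
  have hXphi : ∀ n : N, X (h.phi n) = h.phi (MulAut.conjNormal x₀ n) := fun n => h.uRep_phi x₀ hx₀ n
  have hxD : ∀ y ∈ D, x₀ * y * x₀⁻¹ ∈ D := by
    rintro y ⟨hy, hy'⟩
    refine ⟨hN.conj_mem y hy x₀, ?_⟩
    have h1 := apply_range_mem X hy'
    rw [hXphi] at h1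
    exact h1
  let ψ : MulAut D := conjAutOf D x₀ hxD
  have hψ : ∀ d : D, ((ψ d : D) : Γ) = x₀ * d * x₀⁻¹ := fun d => conjAutOf_coe D x₀ hxD d
  let ϱ : D →* End K E₁ :=
    { toFun := fun d => (ρ (d : Γ)).restrict (hE₁N d (hDN d.2))
      map_one' := by
        ext v
        simp
      map_mul' := by
        intro a b
        ext v
        simp }
  have hϱ : ∀ d (v : E₁), ((ϱ d v : E₁) : V) = ρ (d : Γ) v := fun _ _ => rfl
  let T : End K E₁ := (ρ x₀).restrict hE₁x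
  have hTv : ∀ v : E₁, ((T v : E₁) : V) = ρ x₀ v := fun _ => rfl
  haveI : Nontrivial E₁ := Submodule.nontrivial_iff_ne_bot.mpr hE₁ne
  have hTpow : ∀ (n : ℕ) (v : E₁), (((T ^ n) v : E₁) : V) = ρ (x₀ ^ n) v := by
    intro n v
    induction n with
    | zero => simp
    | succ n ih =>
      rw [pow_succ', Module.End.mul_apply, hTv, ih, pow_succ', map_mul, Module.End.mul_apply]
  have hTℓ : T ^ ℓ = 1 := by
    ext v
    rw [hTpow, hx, map_one]
    rfl
  have hTϱ : ∀ d, T * ϱ d = ϱ (ψ d) * T := by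
    intro d
    ext v
    show ρ x₀ (ρ (d : Γ) v) = ρ ((ψ d : D) : Γ) (ρ x₀ v)
    rw [hψ, ← Module.End.mul_apply, ← Module.End.mul_apply, ← map_mul, ← map_mul]
    congr 2
    group
  have hTfix : ∀ v, T v = v → v = 0 := by
    intro v hv
    apply Subtype.ext
    exact hfix v v.2.1 (congrArg Subtype.val hv)
  have hDK : (Nat.card D : K) ≠ 0 := hdvdK (Subgroup.card_dvd_of_le hDN) hNK
  set R₀ : Subgroup D := R.subgroupOf D with hR₀
  have hscalC : ∀ {c : Γ}, c ∈ C → c ∉ Te ρ E → ∀ v : E₁, v ≠ 0 → ρ c v ≠ v := by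
    intro c hc hcT v hv0 h1
    obtain ⟨s, hs⟩ := h.scal c hc
    apply hcT
    intro w hw
    rw [hs w hw]
    have h2 : s • (v : V) = v := by
      rw [← hs _ v.2.1]
      exact h1
    have hv0' : (v : V) ≠ 0 := fun h0 => hv0 (Subtype.ext h0)
    have h3 : s = 1 := smul_left_injective K hv0' (by simpa using h2)
    rw [h3, one_smul]
  have hra : ∀ d ∈ R₀, ∃ s : K, ϱ d = s • 1 := by
    intro d hd
    refine ⟨((η ⟨d, hd⟩ : Kˣ) : K), ?_⟩
    ext v
    have h1 := v.2.2 ⟨d, hd⟩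
    exact h1
  have hrb : ∀ u y : D, u * y * u⁻¹ * y⁻¹ ∈ R₀ := by
    intro u y
    exact h.C_le_formR (h.comm u (hDN u.2) y (hDN y.2))
  have hUfix : ∀ {a : h.formU}, X a = a → a ∈ LinearMap.range (X - 1) → a = 0 := by
    intro a h1 h2
    exact fixed_inf_range X hXℓ hodd h1 h2
  have hεinv : ∀ u v, h.formε (X u) (X v) = h.formε u v := h.formε_uRep x₀ hx₀
  have hrc : ∀ y, y ∉ R₀ → ∃ u, ϱ (u * y * u⁻¹ * y⁻¹) ≠ 1 := by
    intro y hy
    have hyN : (y : Γ) ∈ N := hDN y.2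
    have h1 : h.phi ⟨y, hyN⟩ ≠ 0 := by
      intro h0
      exact hy ((h.phi_eq_zero_iff _).mp h0)
    have h2 : h.phi ⟨y, hyN⟩ ∈ LinearMap.range (X - 1) := (hDmem ⟨y, hyN⟩).mp y.2
    have h3 : ∃ b ∈ LinearMap.range (X - 1), h.formε (h.phi ⟨y, hyN⟩) b ≠ 0 := by
      by_contra hcon
      push Not at hcon
      exact h1 (nd_range X h.formε hXℓ hodd h.formε_symm h.formε_nd hεinv h2 hcon)
    obtain ⟨b, hb, hb0⟩ := h3
    obtain ⟨u, rfl⟩ := h.phi_surjective b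
    have huD : (u : Γ) ∈ D := (hDmem u).mpr hb
    refine ⟨⟨u, huD⟩, ?_⟩
    rw [h.formε_phi] at hb0
    have hcnot : cm (u : Γ) y ∉ Te ρ E := by
      intro hcon
      apply hb0
      rw [← pair_symm]
      exact pair_eq_zero_iff.mpr hcon
    intro h4
    obtain ⟨v, hv⟩ := exists_ne (0 : E₁)
    have h5 := congrArg (fun f : End K E₁ => ((f v : E₁) : V)) h4
    simp only [Module.End.one_apply] at h5
    exact hscalC (h.comm u u.2 y hyN) hcnot v hv h5
  have hrd : ∀ y, ψ y * y⁻¹ ∈ R₀ → y ∈ R₀ := by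
    intro y hy
    have hyN : (y : Γ) ∈ N := hDN y.2
    have h1 : (x₀ * y * x₀⁻¹) * (y : Γ)⁻¹ ∈ R := by
      have h2 : (((ψ y * y⁻¹ : D)) : Γ) ∈ R := hy
      simpa [hψ] using h2
    have h3 : X (h.phi ⟨y, hyN⟩) = h.phi ⟨y, hyN⟩ := by
      rw [hXphi, eq_comm, h.phi_eq_iff]
      have h4 := h.conj_mem_formR (g := (y : Γ)⁻¹) (fun v hv => h.Ninv _ (N.inv_mem hyN) v hv) h1
      simpa [mul_assoc] using h4
    have h5 := hUfix h3 ((hDmem ⟨y, hyN⟩).mp y.2)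
    exact (h.phi_eq_zero_iff _).mp h5
  have hre : R₀ ≠ ⊤ := by
    intro htop
    apply hne
    refine LinearMap.ext fun u => ?_
    have h1 : (X - 1) u = 0 := by
      obtain ⟨d, hd⟩ := h.phi_surjective ((X - 1) u)
      have hdD : (d : Γ) ∈ D := (hDmem d).mpr (by rw [hd]; exact ⟨u, rfl⟩)
      have h2 : (⟨d, hdD⟩ : D) ∈ R₀ := by rw [htop]; trivial
      rw [← hd]
      exact (h.phi_eq_zero_iff d).mpr h2
    have h2 : X u = (X - 1) u + u := by simp
    rw [h1, zero_add] at h2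
    rw [h2]
    rfl
  obtain ⟨N₀, hN₀, hℓN⟩ := hh_op ϱ hℓ hℓK hDK ψ T hTℓ hTϱ R₀ hra hrb hrc hrd hre hTfix
  refine ⟨N₀, ?_, hℓN⟩
  -- comparing the cardinalities
  have hidx : R₀.index = Nat.card (LinearMap.range (X - 1)) := by
    refine index_eq_card_of_add (fun d : D => (⟨h.phi ⟨d, hDN d.2⟩, (hDmem ⟨d, hDN d.2⟩).mp d.2⟩ :
      LinearMap.range (X - 1))) ?_ ?_ ?_
    · intro a b
      apply Subtype.ext
      exact h.phi_mul ⟨a, hDN a.2⟩ ⟨b, hDN b.2⟩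
    · intro b
      obtain ⟨d, hd⟩ := h.phi_surjective (b : h.formU)
      refine ⟨⟨d, (hDmem d).mpr (by rw [hd]; exact b.2)⟩, ?_⟩
      apply Subtype.ext
      exact hd
    · intro d
      constructor
      · intro h1
        exact (h.phi_eq_zero_iff _).mp (congrArg Subtype.val h1)
      · intro h1
        exact Subtype.ext ((h.phi_eq_zero_iff _).mpr h1)
  rw [← hidx, hN₀]

end FormHyp

end Cfsg.Agent.Lib.PqFpf
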