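import Mathlib
import Cfsg.Agent.Lib.PqFpf.Num

/-!
# The exceptional case of the commutator lemma
-/

set_option autoImplicit false
set_option linter.style.haveILetI false

namespace Cfsg.Agent.Lib.PqFpf

open Module Cfsg.Agent.Lib.S3Fpf

variable {Γ A K V : Type*} [Group Γ] [Group A] [Finite Γ] [Finite A] [Field K] [AddCommGroup V]
  [Module K V]
variable {ρ : Γ →* End K V} {N C : Subgroup Γ} {E : Submodule K V} [hN : N.Normal]

namespace FormHyp

variable (h : FormHyp ρ N C E)
include h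

theorem comm_mem_of_uRep {g : Γ} (hg : g ∈ stabE ρ E) (h1 : h.uRep g hg = 1) {n : Γ} (hn : n ∈ N) :
    g * n * g⁻¹ * n⁻¹ ∈ h.formR := by
  have h2 := LinearMap.congr_fun h1 (h.phi ⟨n, hn⟩)
  rw [h.uRep_phi, Module.End.one_apply, eq_comm, h.phi_eq_iff] at h2
  have h3 := h.conj_mem_formR (g := n) (fun v hv => h.Ninv n hn v hv) h2
  simpa [MulAut.conjNormal_apply, mul_assoc] using h3

/-- The exceptional case of the commutator lemma. -/
theorem exc_main {α : A →* Γ} {Z : Subgroup Γ} {p q s : ℕ} (hD : DualSetup α N Z p q 2 s)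
    [IsAlgClosed K] [FiniteDimensional K V] (hΦ : (frattini N).map N.subtype ≤ C)
    (hZ : Z ≤ stabE ρ E) {x : A} (hx : x ≠ 1) (hxS : α x ∈ stabE ρ E) {ℓ : ℕ} (hℓ : ℓ.Prime)
    (hxℓ : x ^ ℓ = 1) (hfix : ∀ v ∈ E, ρ (α x) v = v → v = 0) (hℓK : (ℓ : K) ≠ 0)
    (hNK : (Nat.card N : K) ≠ 0) : ∀ z ∈ Z, ∀ n ∈ N, z * n * z⁻¹ * n⁻¹ ∈ h.formR := by
  classical
  haveI : Fact ℓ.Prime := ⟨hℓ⟩
  have hord : orderOf x = ℓ := orderOf_eq_prime hxℓ hx
  have hℓA : ℓ ∣ Nat.card A := by
    rw [← hord]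
    exact orderOf_dvd_natCard x
  have hℓodd : Odd ℓ := by
    rw [← Nat.not_even_iff_odd, even_iff_two_dvd]
    intro h2
    have h3 : (2 : ℕ) ∣ Nat.card A := h2.trans hℓA
    have := Nat.eq_one_of_dvd_coprimes hD.tA h3 (dvd_refl 2)
    omega
  have hRZ : ∀ z ∈ Z, ∀ r ∈ h.formR, z * r * z⁻¹ ∈ h.formR :=
    fun z hz r hr => h.conj_mem_formR (hZ hz) hr
  have hΦ' : (frattini N).map N.subtype ≤ h.formR := hΦ.trans h.C_le_formR
  have hαx : (α x) ^ ℓ = 1 := by rw [← map_pow, hxℓ, map_one]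
  by_cases hX : h.uRep (α x) hxS = 1
  · exact hD.comm_mem_of_trivial_action h.formR_le hRZ hΦ' hx
      (fun n hn => h.comm_mem_of_uRep hxS hX hn)
  obtain ⟨N₀, hcard, hℓN⟩ := h.numerics hxS hℓ hℓodd hαx hfix hℓK hNK hX
  set X := h.uRep (α x) hxS with hXdef
  haveI : Finite h.formU := h.finite_formU
  haveI : Fact (2 : ℕ).Prime := ⟨Nat.prime_two⟩
  let K' := AlgebraicClosure (ZMod 2)
  let r : Z →* End (ZMod 2) h.formU :=
    { toFun := fun y => h.uRep y (hZ y.2)
      map_one' := h.uRep_one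
      map_mul' := fun a b => h.uRep_mul a b (hZ a.2) (hZ b.2) }
  have hrdef : ∀ y : Z, r y = h.uRep y (hZ y.2) := fun _ => rfl
  have hrphi : ∀ (y : Z) (n : N), r y (h.phi n) = h.phi (MulAut.conjNormal (y : Γ) n) :=
    fun y n => h.uRep_phi y (hZ y.2) n
  have hXphi : ∀ n : N, X (h.phi n) = h.phi (MulAut.conjNormal (α x) n) :=
    fun n => h.uRep_phi _ hxS n
  have hrcomm : ∀ a b, r a * r b = r b * r a := by
    intro a b
    refine LinearMap.ext fun u => ?_
    obtain ⟨n, rfl⟩ := h.phi_surjective u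
    rw [Module.End.mul_apply, Module.End.mul_apply, hrphi, hrphi, hrphi, hrphi]
    congr 1
    apply Subtype.ext
    have h1 := hD.comm a a.2 b b.2 n n.2
    simp only [MulAut.conjNormal_apply]
    simpa [mul_assoc] using h1
  have hrε : ∀ y u v, h.formε (r y u) (r y v) = h.formε u v :=
    fun y u v => h.formε_uRep y (hZ y.2) u v
  let θ := conjOn α Z hD.normZ x
  have hθ : ∀ y, X * r y = r (θ y) * X := by
    intro y
    refine LinearMap.ext fun u => ?_
    obtain ⟨n, rfl⟩ := h.phi_surjective u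
    rw [Module.End.mul_apply, Module.End.mul_apply, hrphi, hXphi, hXphi, hrphi]
    congr 1
    apply Subtype.ext
    simp only [MulAut.conjNormal_apply, θ, conjOn_coe]
    group
  have hXℓ : X ^ ℓ = 1 := by
    rw [hXdef, ← h.uRep_pow]
    exact h.uRep_eq_one _ _ hαx
  have hsodd : Odd s := hD.hs.odd_of_ne_two hD.hst
  have hQodd : Odd (Nat.card Z) := by
    haveI : Fact s.Prime := ⟨hD.hs⟩
    obtain ⟨k, hk⟩ := IsPGroup.iff_card.mp hD.Zpg
    rw [hk]
    exact hsodd.pow
  have hQℓ : (Nat.card Z).Coprime ℓ := (Nat.Coprime.coprime_dvd_left hℓA hD.copZ.symm.symm).symm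
  have hQK : (Nat.card Z : K') ≠ 0 := hD.card_Z_ne
  have htriv := symp_main (K := K') h.formε h.formε_symm h.formε_nd hℓ hℓodd hXℓ
    (h.formε_uRep _ hxS) hℓN hcard r hrcomm hrε θ hθ hQK hQodd hQℓ (by
      intro μ hμ _ f hf hfX
      have hf' : (f.toAddMonoidHom.comp
          (AddMonoidHom.mk' (fun w : Additive N => h.phi (Additive.toMul w)) (fun a b => h.phi_mul _ _))) = 0 := by
        refine hD.dual_key hμ ?_ hx ?_
        · intro y
          refine AddMonoidHom.ext fun w => ?_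
          obtain ⟨w, rfl⟩ := Additive.ofMul.surjective w
          rw [dualZ_apply]
          have h1 := LinearMap.congr_fun (hf y) (h.phi w)
          rw [LinearMap.smul_apply, dualK_apply] at h1
          rw [AddMonoidHom.smul_apply]
          have h2 : r y⁻¹ (h.phi w) = h.phi (MulAut.conjNormal (y : Γ)⁻¹ w) := by
            rw [hrphi]
            rfl
          rw [h2] at h1
          exact h1
        · refine AddMonoidHom.ext fun w => ?_
          obtain ⟨w, rfl⟩ := Additive.ofMul.surjective w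
          rw [dualA_apply]
          have h1 := LinearMap.congr_fun hfX (h.phi (MulAut.conjNormal (α x)⁻¹ w))
          rw [LinearMap.comp_apply, hXphi] at h1
          have e : MulAut.conjNormal (α x) (MulAut.conjNormal (α x)⁻¹ w) = w := by
            apply Subtype.ext
            simp [MulAut.conjNormal_apply, mul_assoc]
          rw [e] at h1
          exact h1.symm
      refine LinearMap.ext fun u => ?_
      obtain ⟨n, rfl⟩ := h.phi_surjective u
      exact congrArg (fun F : Additive N →+ K' => F (Additive.ofMul n)) hf')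
  intro z hz n hn
  exact h.comm_mem_of_uRep (hZ hz) (htriv ⟨z, hz⟩) hn

end FormHyp

end Cfsg.Agent.Lib.PqFpf
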