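import Mathlib
import Cfsg.Agent.Lib.PqFpf.Exc
import Cfsg.Agent.Lib.PGroup.FrattiniBasis
import Cfsg.Agent.Lib.Coprime.Averaging

/-!
# A minimal pair of subgroups acted on by `A`
-/

set_option autoImplicit false
set_option linter.style.haveILetI false

namespace Cfsg.Agent.Lib.PqFpf

open Module Cfsg.Agent.Lib.S3Fpf
open scoped commutatorElement

section Gen

variable {Γ : Type*} [Group Γ]

theorem conj_mem_commutator {N T : Subgroup Γ} {g : Γ} (hN : ∀ y ∈ N, g * y * g⁻¹ ∈ N)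
    (hT : ∀ y ∈ T, g * y * g⁻¹ ∈ T) : ∀ y ∈ ⁅N, T⁆, g * y * g⁻¹ ∈ ⁅N, T⁆ := by
  intro y hy
  let f : Γ →* Γ := (MulAut.conj g).toMonoidHom
  have h1 : f y ∈ (⁅N, T⁆).map f := Subgroup.mem_map_of_mem _ hy
  rw [Subgroup.map_commutator] at h1
  refine Subgroup.commutator_mono ?_ ?_ h1
  · rintro _ ⟨n, hn, rfl⟩
    exact hN n hn
  · rintro _ ⟨n, hn, rfl⟩
    exact hT n hn

theorem frattini_ne_top_of_nontrivial {P : Type*} [Group P] [Finite P] [Nontrivial P] :
    frattini P ≠ ⊤ := by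
  intro h
  obtain h1 | ⟨K, hK, -⟩ := eq_top_or_exists_le_coatom (⊥ : Subgroup P)
  · obtain ⟨x, hx⟩ := exists_ne (1 : P)
    have hmem : x ∈ (⊥ : Subgroup P) := by
      rw [h1]
      trivial
    exact hx (Subgroup.mem_bot.mp hmem)
  · have := frattini_le_coatom hK
    rw [h, top_le_iff] at this
    exact hK.1 this

/-- The commutators of a `t`-group lie in the Frattini subgroup, and for `t = 2` so do the squares. -/
theorem comm_mem_frattini {P : Type*} [Group P] [Finite P] {t : ℕ} [Fact t.Prime]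
    (hP : IsPGroup t P) (a b : P) : a * b * a⁻¹ * b⁻¹ ∈ frattini P := by
  obtain ⟨V, _, _, π, -, hker⟩ := Cfsg.Agent.Lib.PGroup.FrattiniBasis.exists_vector_space hP
  rw [← hker, MonoidHom.mem_ker, map_mul, map_mul, map_mul, map_inv, map_inv]
  rw [mul_comm (π a) (π b), mul_assoc (π b), mul_inv_cancel, mul_one, mul_inv_cancel]

theorem sq_mem_frattini {P : Type*} [Group P] [Finite P] [Fact (2 : ℕ).Prime]
    (hP : IsPGroup 2 P) (a : P) : a * a ∈ frattini P := by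
  obtain ⟨V, _, _, π, -, hker⟩ := Cfsg.Agent.Lib.PGroup.FrattiniBasis.exists_vector_space hP
  rw [← hker, MonoidHom.mem_ker, map_mul]
  have h1 : ((2 : ZMod 2) • Multiplicative.toAdd (π a)) = 0 := by
    rw [show (2 : ZMod 2) = 0 from rfl, zero_smul]
  rw [two_smul] at h1
  exact h1

/-- `C_N(T)`. -/
def cenN (N T : Subgroup Γ) : Subgroup Γ := N ⊓ Subgroup.centralizer (T : Set Γ)

theorem mem_cenN {N T : Subgroup Γ} {y : Γ} : y ∈ cenN N T ↔ y ∈ N ∧ ∀ τ ∈ T, τ * y = y * τ := by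
  simp only [cenN, Subgroup.mem_inf, Subgroup.mem_centralizer_iff, SetLike.mem_coe]

theorem conj_mem_cenN {M B : Subgroup Γ} {g y : Γ} (hM : ∀ y ∈ M, g * y * g⁻¹ ∈ M)
    (hB : ∀ y ∈ B, g⁻¹ * y * g ∈ B) (hy : y ∈ cenN M B) : g * y * g⁻¹ ∈ cenN M B := by
  rw [mem_cenN] at hy ⊢
  refine ⟨hM y hy.1, fun τ hτ => ?_⟩
  have h1 := hy.2 _ (hB τ hτ)
  calc τ * (g * y * g⁻¹) = g * (g⁻¹ * τ * g * y) * g⁻¹ := by group
    _ = g * (y * (g⁻¹ * τ * g)) * g⁻¹ := by rw [h1]
    _ = g * y * g⁻¹ * τ := by group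

/-- The elements of `T` central modulo `C_T(N)`. -/
def Zone (N T : Subgroup Γ) [hN : N.Normal] : Subgroup Γ where
  carrier := {z | z ∈ T ∧ ∀ τ ∈ T, z * τ * z⁻¹ * τ⁻¹ ∈ cenN T N}
  one_mem' := by
    refine ⟨T.one_mem, fun τ _ => ?_⟩
    simp
  mul_mem' := by
    rintro a b ⟨ha, ha'⟩ ⟨hb, hb'⟩
    refine ⟨T.mul_mem ha hb, fun τ hτ => ?_⟩
    have h1 : a * b * τ * (a * b)⁻¹ * τ⁻¹ =
        a * (b * τ * b⁻¹ * τ⁻¹) * a⁻¹ * (a * τ * a⁻¹ * τ⁻¹) := by
      group
    rw [h1]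
    refine mul_mem (conj_mem_cenN ?_ ?_ (hb' τ hτ)) (ha' τ hτ)
    · intro y hy
      exact T.mul_mem (T.mul_mem ha hy) (T.inv_mem ha)
    · intro y hy
      have := hN.conj_mem y hy a⁻¹
      simpa using this
  inv_mem' := by
    rintro a ⟨ha, ha'⟩
    refine ⟨T.inv_mem ha, fun τ hτ => ?_⟩
    have h1 : a⁻¹ * τ * a⁻¹⁻¹ * τ⁻¹ = a⁻¹ * (a * τ * a⁻¹ * τ⁻¹)⁻¹ * a⁻¹⁻¹ := by
      group
    rw [h1]
    refine conj_mem_cenN ?_ ?_ (inv_mem (ha' τ hτ))
    · intro y hy
      exact T.mul_mem (T.mul_mem (T.inv_mem ha) hy) (T.inv_mem (T.inv_mem ha))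
    · intro y hy
      have := hN.conj_mem y hy a
      simpa using this

theorem mem_Zone {N T : Subgroup Γ} [N.Normal] {z : Γ} :
    z ∈ Zone N T ↔ z ∈ T ∧ ∀ τ ∈ T, z * τ * z⁻¹ * τ⁻¹ ∈ cenN T N := Iff.rfl

theorem Zone_le {N T : Subgroup Γ} [N.Normal] : Zone N T ≤ T := fun _ hz => hz.1

end Gen

variable {Γ A : Type*} [Group Γ] [Group A] [Finite Γ] [Finite A]

/-- The setting of the minimal counterexample. -/
structure MinSetup (α : A →* Γ) (N T : Subgroup Γ) (p q t s : ℕ) : Prop where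
  hp : p.Prime
  hq : q.Prime
  cardA : Nat.card A = p * q
  ht : t.Prime
  hs : s.Prime
  hst : s ≠ t
  Npg : IsPGroup t N
  Tpg : IsPGroup s T
  tA : (Nat.card A).Coprime t
  sA : (Nat.card A).Coprime s
  normN : Norm α N
  normT : Norm α T
  fpfN : Fpf α N
  fpfT : Fpf α T
  hmin : ∀ N₁ : Subgroup Γ, N₁ ≤ N → N₁ ≠ N → Norm α N₁ → (∀ τ ∈ T, ∀ y ∈ N₁, τ * y * τ⁻¹ ∈ N₁) →
    ∀ τ ∈ T, ∀ y ∈ N₁, τ * y = y * τ
  nc : ¬ ∀ τ ∈ T, ∀ n ∈ N, τ * n = n * τ

variable {α : A →* Γ} {N T : Subgroup Γ} [hN : N.Normal] {p q t s : ℕ}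

namespace MinSetup

variable (h : MinSetup α N T p q t s)
include h

theorem copTN : (Nat.card T).Coprime (Nat.card N) := by
  haveI : Fact t.Prime := ⟨h.ht⟩
  haveI : Fact s.Prime := ⟨h.hs⟩
  exact IsPGroup.coprime_card_of_ne s t h.hst T N h.Tpg h.Npg

theorem le_normalizer : T ≤ Subgroup.normalizer (N : Set Γ) := by
  rw [(Subgroup.normalizer_eq_top_iff).mpr hN]
  exact le_top

theorem commutator_eq : ⁅N, T⁆ = N := by
  haveI : Fact t.Prime := ⟨h.ht⟩
  haveI : Group.IsNilpotent N := h.Npg.isNilpotent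
  by_contra hne
  have h1 := h.hmin ⁅N, T⁆ (Subgroup.commutator_le_left N T) hne
    (fun a => conj_mem_commutator (h.normN a) (h.normT a))
    (fun τ hτ => conj_mem_commutator (fun y hy => hN.conj_mem y hy τ)
      (fun y hy => T.mul_mem (T.mul_mem hτ hy) (T.inv_mem hτ)))
  have h2 := Cfsg.Agent.Lib.Coprime.Coset.commutator_commutator_eq (A := T) (K := N) h.le_normalizer
    h.copTN (Or.inr inferInstance)
  have h3 : ⁅⁅N, T⁆, T⁆ = ⊥ := by
    rw [Subgroup.commutator_eq_bot_iff_le_centralizer]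
    intro y hy
    rw [Subgroup.mem_centralizer_iff]
    intro τ hτ
    exact h1 τ hτ y hy
  rw [h3] at h2
  apply h.nc
  have h4 : N ≤ Subgroup.centralizer (T : Set Γ) := Subgroup.commutator_eq_bot_iff_le_centralizer.mp h2.symm
  intro τ hτ n hn
  exact Subgroup.mem_centralizer_iff.mp (h4 hn) τ hτ

theorem finite_N : Finite N := inferInstance

theorem nontrivial_N : Nontrivial N := by
  by_contra hcon
  rw [not_nontrivial_iff_subsingleton] at hcon
  apply h.nc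
  intro τ _ n hn
  have : (⟨n, hn⟩ : N) = 1 := Subsingleton.elim _ _
  have h1 : n = 1 := congrArg Subtype.val this
  rw [h1, mul_one, one_mul]

/-- The Frattini subgroup of `N`, in the big group. -/
theorem conj_mem_frattini (g : Γ) : ∀ y ∈ (frattini N).map N.subtype,
    g * y * g⁻¹ ∈ (frattini N).map N.subtype := by
  rintro _ ⟨y, hy, rfl⟩
  refine ⟨MulAut.conjNormal g y, ?_, by simp [MulAut.conjNormal_apply]⟩
  have h1 := (Subgroup.characteristic_iff_le_map.mp (frattini_characteristic (G := N)))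
  have h2 := (Subgroup.characteristic_iff_comap_le.mp (frattini_characteristic (G := N)))
    (MulAut.conjNormal g)⁻¹
  exact h2 (by simpa using hy)

theorem frattini_le : (frattini N).map N.subtype ≤ cenN N T := by
  haveI : Nontrivial N := h.nontrivial_N
  have hne : (frattini N).map N.subtype ≠ N := by
    intro h0
    apply frattini_ne_top_of_nontrivial (P := N)
    rw [eq_top_iff]
    intro y _
    have h1 : (y : Γ) ∈ (frattini N).map N.subtype := by
      rw [h0]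
      exact y.2
    obtain ⟨y', hy', hyy⟩ := h1
    have : y' = y := Subtype.ext hyy
    rwa [← this]
  have h1 := h.hmin _ (Subgroup.map_subtype_le _) hne (fun a => h.conj_mem_frattini (α a))
    (fun τ _ => h.conj_mem_frattini τ)
  intro y hy
  rw [mem_cenN]
  refine ⟨Subgroup.map_subtype_le _ hy, fun τ hτ => h1 τ hτ y hy⟩

theorem comm_mem_cen {a b : Γ} (ha : a ∈ N) (hb : b ∈ N) : a * b * a⁻¹ * b⁻¹ ∈ cenN N T := by
  haveI : Fact t.Prime := ⟨h.ht⟩
  apply h.frattini_le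
  exact ⟨_, comm_mem_frattini h.Npg ⟨a, ha⟩ ⟨b, hb⟩, rfl⟩

theorem normC : Norm α (cenN N T) := fun a _ hy =>
  conj_mem_cenN (h.normN a) (fun _ hb => h.normT.inv_mem a hb) hy

theorem fpfC : Fpf α (cenN N T) := h.fpfN.mono inf_le_left

theorem central {c n : Γ} (hc : c ∈ cenN N T) (hn : n ∈ N) : c * n = n * c := by
  have h1 : ⁅⁅T, N⁆, cenN N T⁆ = ⊥ := by
    apply Subgroup.commutator_commutator_eq_bot_of_rotate
    · rw [Subgroup.commutator_eq_bot_iff_le_centralizer, Subgroup.commutator_le]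
      intro a ha b hb
      rw [Subgroup.mem_centralizer_iff]
      intro τ hτ
      exact (mem_cenN.mp (h.comm_mem_cen ha (mem_cenN.mp hb).1)).2 τ hτ
    · rw [Subgroup.commutator_eq_bot_iff_le_centralizer]
      have h2 : ⁅cenN N T, T⁆ = ⊥ := by
        rw [Subgroup.commutator_eq_bot_iff_le_centralizer]
        exact inf_le_right
      rw [h2]
      exact bot_le
  rw [Subgroup.commutator_comm T N, h.commutator_eq, Subgroup.commutator_eq_bot_iff_le_centralizer] at h1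
  exact (Subgroup.mem_centralizer_iff.mp (h1 hn) c hc)

/-- The abelian case: `C_N(T) = 1`. -/
theorem cen_eq_bot_of_comm (hab : ∀ a ∈ N, ∀ b ∈ N, a * b = b * a) : cenN N T = ⊥ := by
  haveI : IsMulCommutative N := ⟨⟨fun a b => Subtype.ext (hab a a.2 b b.2)⟩⟩
  have h1 := (Cfsg.Agent.Lib.Coprime.Averaging.centralizer_inf_commutator_and_sup T N h.le_normalizer
    h.copTN).1
  rw [h.commutator_eq] at h1
  rw [eq_bot_iff]
  intro y hy
  rw [← h1]
  exact ⟨hy, hy.1⟩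

/-- The centre of a nonabelian `N` is centralised by `T`. -/
theorem mem_cen_of_central (hnab : ¬ ∀ a ∈ N, ∀ b ∈ N, a * b = b * a) {c : Γ} (hc : c ∈ N)
    (hcn : ∀ n ∈ N, c * n = n * c) : c ∈ cenN N T := by
  have hne : cenN N N ≠ N := by
    intro h0
    apply hnab
    intro a ha b hb
    have h1 : a ∈ cenN N N := by
      rw [h0]
      exact ha
    exact ((mem_cenN.mp h1).2 b hb).symm
  have hconj : ∀ g : Γ, ∀ y ∈ cenN N N, g * y * g⁻¹ ∈ cenN N N := by
    intro g y hy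
    refine conj_mem_cenN (fun y hy => hN.conj_mem y hy g) (fun y hy => ?_) hy
    have := hN.conj_mem y hy g⁻¹
    simpa using this
  have h1 := h.hmin (cenN N N) inf_le_left hne (fun a => hconj (α a)) (fun τ _ => hconj τ)
  rw [mem_cenN]
  refine ⟨hc, fun τ hτ => h1 τ hτ c (mem_cenN.mpr ⟨hc, fun n hn => (hcn n hn).symm⟩)⟩

theorem normD : Norm α (cenN T N) := fun a _ hy =>
  conj_mem_cenN (h.normT a) (fun _ hb => by simpa using hN.conj_mem _ hb (α a)⁻¹) hy

theorem normZ : Norm α (Zone N T) := by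
  intro a z hz
  refine ⟨h.normT a z hz.1, fun τ hτ => ?_⟩
  have h1 := hz.2 _ (h.normT.inv_mem a hτ)
  have h2 := h.normD a _ h1
  have e : α a * z * (α a)⁻¹ * τ * (α a * z * (α a)⁻¹)⁻¹ * τ⁻¹ =
      α a * (z * ((α a)⁻¹ * τ * α a) * z⁻¹ * ((α a)⁻¹ * τ * α a)⁻¹) * (α a)⁻¹ := by
    group
  rw [e]
  exact h2

theorem dualSetup : DualSetup α N (Zone N T) p q t s where
  hp := h.hp
  hq := h.hq
  cardA := h.cardA
  ht := h.ht
  hs := h.hs
  hst := h.hst
  Npg := h.Npg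
  Zpg := h.Tpg.to_le Zone_le
  tA := h.tA
  sA := h.sA
  normN := h.normN
  normZ := h.normZ
  fpfN := h.fpfN
  fpfZ := h.fpfT.mono Zone_le
  comm := by
    intro z hz z' hz' n hn
    have h1 := hz.2 z' hz'.1
    have h3 := (mem_cenN.mp h1).2 _ (hN.conj_mem n hn (z' * z))
    calc (z * z') * n * (z * z')⁻¹ =
        (z * z' * z⁻¹ * z'⁻¹) * ((z' * z) * n * (z' * z)⁻¹) * (z * z' * z⁻¹ * z'⁻¹)⁻¹ := by group
      _ = ((z' * z) * n * (z' * z)⁻¹) * (z * z' * z⁻¹ * z'⁻¹) * (z * z' * z⁻¹ * z'⁻¹)⁻¹ := by rw [← h3]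
      _ = (z' * z) * n * (z' * z)⁻¹ := by rw [mul_inv_cancel_right]

theorem exists_not_mem : ∃ z ∈ Zone N T, z ∉ cenN T N := by
  classical
  haveI : Fact s.Prime := ⟨h.hs⟩
  let D : Subgroup T := (cenN T N).subgroupOf T
  haveI hDn : D.Normal := by
    constructor
    intro d hd τ
    refine Subgroup.mem_subgroupOf.mpr ?_
    simp only [Subgroup.coe_mul, InvMemClass.coe_inv]
    refine conj_mem_cenN (fun y hy => T.mul_mem (T.mul_mem τ.2 hy) (T.inv_mem τ.2))
      (fun y hy => ?_) hd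
    simpa using hN.conj_mem y hy (τ : Γ)⁻¹
  have hQp : IsPGroup s (T ⧸ D) := h.Tpg.to_quotient D
  have hDne : D ≠ ⊤ := by
    intro h0
    apply h.nc
    intro τ hτ n hn
    have h1 : (⟨τ, hτ⟩ : T) ∈ D := by
      rw [h0]
      trivial
    exact ((mem_cenN.mp (Subgroup.mem_subgroupOf.mp h1)).2 n hn).symm
  haveI : Nontrivial (T ⧸ D) := by
    rw [QuotientGroup.nontrivial_iff]
    exact hDne
  haveI := hQp.center_nontrivial
  obtain ⟨c, hc⟩ := exists_ne (1 : Subgroup.center (T ⧸ D))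
  obtain ⟨z, hz⟩ := QuotientGroup.mk_surjective (c : T ⧸ D)
  refine ⟨z, ⟨z.2, fun τ hτ => ?_⟩, fun hzD => hc ?_⟩
  · have h1 := (Subgroup.mem_center_iff.mp c.2 ((⟨τ, hτ⟩ : T) : T ⧸ D))
    rw [← hz, ← QuotientGroup.mk_mul, ← QuotientGroup.mk_mul, QuotientGroup.eq] at h1
    have h2 : ((⟨τ, hτ⟩ * z)⁻¹ * (z * ⟨τ, hτ⟩) : T) ∈ D := by
      simpa using h1
    have h3 : (z : Γ) * τ * (z : Γ)⁻¹ * τ⁻¹ =
        (⟨τ, hτ⟩ * z : T) * ((⟨τ, hτ⟩ * z)⁻¹ * (z * ⟨τ, hτ⟩) : T) * (⟨τ, hτ⟩ * z : T)⁻¹ := by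
      simp only [Subgroup.coe_mul, InvMemClass.coe_inv]
      group
    rw [h3]
    exact hDn.conj_mem _ h2 _
  · apply Subtype.ext
    rw [← hz]
    exact (QuotientGroup.eq_one_iff z).mpr (Subgroup.mem_subgroupOf.mpr hzD)

/-- The last step: an element of `T` with commutators in `C_N(T)` centralises `N`. -/
theorem comm_of_comm_mem {z n : Γ} (hz : z ∈ T) (hn : n ∈ N) (hc : z * n * z⁻¹ * n⁻¹ ∈ cenN N T) :
    z * n = n * z := by
  obtain ⟨c, hcdef⟩ : ∃ c, c = z * n * z⁻¹ * n⁻¹ := ⟨_, rfl⟩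
  rw [← hcdef] at hc
  have hzc : z * c = c * z := (mem_cenN.mp hc).2 z hz
  have hzn : z * n * z⁻¹ = c * n := by
    rw [hcdef]
    group
  have hpow : ∀ k : ℕ, z ^ k * n * (z ^ k)⁻¹ = c ^ k * n := by
    intro k
    induction k with
    | zero => simp
    | succ k ih =>
      have hzck : z * c ^ k = c ^ k * z := (Commute.pow_right hzc k)
      calc z ^ (k + 1) * n * (z ^ (k + 1))⁻¹ = z * (z ^ k * n * (z ^ k)⁻¹) * z⁻¹ := by
            rw [pow_succ']
            group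
        _ = z * (c ^ k * n) * z⁻¹ := by rw [ih]
        _ = c ^ k * (z * n * z⁻¹) := by
            rw [← mul_assoc, hzck]
            group
        _ = c ^ (k + 1) * n := by
            rw [hzn, pow_succ, mul_assoc]
  have h1 : c ^ Nat.card T = 1 := by
    have h2 : z ^ Nat.card T = 1 := by
      have := pow_card_eq_one' (x := (⟨z, hz⟩ : T))
      exact congrArg Subtype.val this
    have h3 := hpow (Nat.card T)
    rw [h2] at h3
    simpa using h3.symm
  have h2 : c ^ Nat.card N = 1 := by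
    have := pow_card_eq_one' (x := (⟨c, (mem_cenN.mp hc).1⟩ : N))
    exact congrArg Subtype.val this
  have hc1 : c = 1 := by
    have h3 := Nat.dvd_gcd (orderOf_dvd_of_pow_eq_one h1) (orderOf_dvd_of_pow_eq_one h2)
    rw [Nat.Coprime.gcd_eq_one h.copTN, Nat.dvd_one] at h3
    exact orderOf_eq_one_iff.mp h3
  rw [hc1, one_mul] at hzn
  calc z * n = (z * n * z⁻¹) * z := by group
    _ = n * z := by rw [hzn]

/-- A contradiction from the commutator statement. -/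
theorem false_of_comm (H : ∀ z ∈ Zone N T, ∀ n ∈ N, z * n = n * z) : False := by
  obtain ⟨z, hz, hzD⟩ := h.exists_not_mem
  apply hzD
  rw [mem_cenN]
  exact ⟨hz.1, fun n hn => (H z hz n hn).symm⟩

end MinSetup

end Cfsg.Agent.Lib.PqFpf
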